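import Cfsg.Agent.H759.LSix.Main
import Cfsg.Agent.H838.SylFive
import Cfsg.Agent.H853.FiK.Fi23K

/-!
# `Fi₂₃` has a character of `5`-defect zero (helper759; fi23_5 for S4555, S4559)

`C(y5) = ⟨y5⟩ × S₇`, `k(S₇) = 15`, `5 · 15 = 75 < 79 ≤ k(Fi₂₃)`.
-/

set_option autoImplicit false
set_option maxRecDepth 100000

namespace Cfsg.Agent.H759.LSix.FiTT

open Cfsg Subgroup Cfsg.Agent.Blocks.CyclicGroup Cfsg.Agent.LThreeFi23 Cfsg.Agent.H838.Fi23 Cfsg.Agent.Fischer.Fi23Hom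
open Cfsg.Spor (Fi23)

theorem fact5 : Fact (Nat.Prime 5) := ⟨by norm_num⟩

attribute [local instance] fact5

theorem ord5 : orderOf (elw y5) = 5 := orderOf_eq_prime pow5 y5_ne

theorem split5 : Split 5 (elw y5) (SL L7) where
  ord := ord5
  comm h hh := (S7_comm_y5 hh).symm
  disj m hm := by
    have h1 : elw y5 ^ (m.val : ℤ) ∈ SL L7 := by rw [zpow_natCast]; exact hm
    have h2 := y5_pow_S7 _ h1
    rw [zpow_natCast] at h2
    exact (u_eq_one_iff ord5).1 h2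
  gen c hc := by
    obtain ⟨i, y, hy, h⟩ := cent5 hc
    obtain ⟨m, hm⟩ := exists_u_of_mem ord5 (x := elw y5 ^ i) (mem_zpowers_iff.2 ⟨i, rfl⟩)
    exact ⟨m, y, hy, by rw [hm]; exact h⟩

theorem exists_equiv : Nonempty (Equiv.Perm (Fin 7) ≃* SL L7) := by
  obtain ⟨f, -, hr, hi⟩ := exists_S7
  rw [← hr]
  exact ⟨MonoidHom.ofInjective hi⟩

theorem card_S7 : (Nat.card (SL L7)).factorization 5 = 1 := by
  obtain ⟨e⟩ := exists_equiv
  rw [← Nat.card_congr e.toEquiv, Nat.card_perm, Nat.card_fin, show Nat.factorial 7 = 5 * 1008 by rfl,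
    Nat.factorization_mul (by norm_num) (by norm_num), Finsupp.add_apply,
    Nat.Prime.factorization_self (by norm_num), Nat.factorization_eq_zero_of_not_dvd (by norm_num)]


/-! ### `k(S₇) ≤ 15` (variant of `H540.SmallSym`) -/

/-- the multiplicities of `2, …, 7` -/
def cnt (s : Multiset ℕ) : ℕ × ℕ × ℕ × ℕ × ℕ × ℕ :=
  (s.count 2, s.count 3, s.count 4, s.count 5, s.count 6, s.count 7)

/-- the possible multiplicities -/
def box : Finset (ℕ × ℕ × ℕ × ℕ × ℕ × ℕ) :=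
  (Finset.range 4 ×ˢ Finset.range 3 ×ˢ Finset.range 2 ×ˢ Finset.range 2 ×ˢ Finset.range 2 ×ˢ Finset.range 2).filter
    fun t => 2 * t.1 + 3 * t.2.1 + 4 * t.2.2.1 + 5 * t.2.2.2.1 + 6 * t.2.2.2.2.1 + 7 * t.2.2.2.2.2 ≤ 7

theorem sum_eq {s : Multiset ℕ} (h2 : ∀ x ∈ s, 2 ≤ x) (h6 : s.sum ≤ 7) :
    s.sum = 2 * s.count 2 + 3 * s.count 3 + 4 * s.count 4 + 5 * s.count 5 + 6 * s.count 6 + 7 * s.count 7 := by
  have hle : ∀ x ∈ s, x ≤ 7 := fun x hx => (Multiset.le_sum_of_mem hx).trans h6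
  have h1 : s.sum = ∑ x ∈ Finset.Icc 2 7, s.count x * x := by
    rw [Finset.sum_multiset_count]
    simp only [smul_eq_mul]
    refine Finset.sum_subset ?_ ?_
    · intro x hx
      rw [Multiset.mem_toFinset] at hx
      rw [Finset.mem_Icc]
      exact ⟨h2 x hx, hle x hx⟩
    · intro x _ hx
      rw [Multiset.mem_toFinset] at hx
      rw [Multiset.count_eq_zero_of_notMem hx, zero_mul]
  rw [h1]
  have h3 : Finset.Icc 2 7 = {2, 3, 4, 5, 6, 7} := by decide
  rw [h3]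
  simp
  ring

theorem cnt_mem {s : Multiset ℕ} (h2 : ∀ x ∈ s, 2 ≤ x) (h : s.sum ≤ 7) : cnt s ∈ box := by
  have h1 := sum_eq h2 h
  rw [box, Finset.mem_filter]
  simp only [Finset.mem_product, Finset.mem_range, cnt]
  omega

theorem cnt_injective {s t : Multiset ℕ} (hs2 : ∀ x ∈ s, 2 ≤ x) (hs : s.sum ≤ 7)
    (ht2 : ∀ x ∈ t, 2 ≤ x) (ht : t.sum ≤ 7) (h : cnt s = cnt t) : s = t := by
  simp only [cnt, Prod.mk.injEq] at h
  ext x
  by_cases hx : 2 ≤ x ∧ x ≤ 7
  · obtain ⟨hx1, hx2⟩ := hx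
    interval_cases x
    · exact h.1
    · exact h.2.1
    · exact h.2.2.1
    · exact h.2.2.2.1
    · exact h.2.2.2.2.1
    · exact h.2.2.2.2.2
  · have h1 : x ∉ s := fun hx' => hx ⟨hs2 x hx', (Multiset.le_sum_of_mem hx').trans hs⟩
    have h2 : x ∉ t := fun hx' => hx ⟨ht2 x hx', (Multiset.le_sum_of_mem hx').trans ht⟩
    rw [Multiset.count_eq_zero_of_notMem h1, Multiset.count_eq_zero_of_notMem h2]

theorem k_perm_seven : Nat.card (ConjClasses (Equiv.Perm (Fin 7))) ≤ 15 := by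
  have hsum : ∀ σ : Equiv.Perm (Fin 7), σ.cycleType.sum ≤ 7 := by
    intro σ
    rw [Equiv.Perm.sum_cycleType]
    exact (Finset.card_le_univ _).trans (by rw [Fintype.card_fin])
  let f : ConjClasses (Equiv.Perm (Fin 7)) → box := fun c =>
    ⟨cnt (Quotient.out c : Equiv.Perm (Fin 7)).cycleType,
      cnt_mem (fun x hx => Equiv.Perm.two_le_of_mem_cycleType hx) (hsum _)⟩
  have hf : Function.Injective f := by
    intro c d h
    have h1 := congrArg Subtype.val h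
    have h2 := cnt_injective (fun x hx => Equiv.Perm.two_le_of_mem_cycleType hx) (hsum _)
      (fun x hx => Equiv.Perm.two_le_of_mem_cycleType hx) (hsum _) h1
    have h3 := Equiv.Perm.isConj_iff_cycleType_eq.2 h2
    have h4 := ConjClasses.mk_eq_mk_iff_isConj.2 h3
    have e1 : ConjClasses.mk (Quotient.out c : Equiv.Perm (Fin 7)) = c := Quotient.out_eq c
    have e2 : ConjClasses.mk (Quotient.out d : Equiv.Perm (Fin 7)) = d := Quotient.out_eq d
    rwa [e1, e2] at h4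
  have h1 := Nat.card_le_card_of_injective f hf
  rw [Nat.card_eq_fintype_card (α := box), Fintype.card_coe] at h1
  exact h1.trans (by decide +kernel)

theorem k_S7 : Nat.card (ConjClasses (SL L7)) ≤ 15 := by
  obtain ⟨e⟩ := exists_equiv
  refine le_trans (Nat.card_le_card_of_surjective _
    (ConjClasses.map_surjective (f := e.toMonoidHom) e.surjective)) ?_
  exact k_perm_seven

theorem no25 (t : Fi23) : orderOf t ≠ 5 ^ 2 := by
  intro ht
  obtain ⟨Q, hQ⟩ := Syl.exists_sylow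
  have hp : IsPGroup 5 (zpowers t) := IsPGroup.of_card (n := 2) (by rw [Nat.card_zpowers, ht])
  obtain ⟨Q', hQ'⟩ := hp.exists_le_sylow
  obtain ⟨g, hg⟩ := MulAction.exists_smul_eq Fi23 Q' Q
  have h1 : g * t * g⁻¹ ∈ Syl.E0 := by
    have h2 : MulAut.conj g • t ∈ ((g • Q' : Sylow 5 Fi23) : Subgroup Fi23) := by
      rw [Sylow.coe_subgroup_smul]
      exact Subgroup.smul_mem_pointwise_smul _ _ _ (hQ' (mem_zpowers t))
    rw [hg, hQ] at h2
    exact h2
  obtain ⟨i, j, hij⟩ := h1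
  have h3 : (g * t * g⁻¹) ^ 5 = 1 := by
    rw [hij, ((y5_comm.zpow_left i).zpow_right j).mul_pow, ← zpow_natCast, ← zpow_mul, ← zpow_natCast (elw y5' ^ j),
      ← zpow_mul, mul_comm i, mul_comm j, zpow_mul, zpow_mul, zpow_natCast, zpow_natCast, pow5, y5'_pow, one_zpow,
      one_zpow, one_mul]
  rw [conj_pow, conj_eq_one_iff] at h3
  have h4 := orderOf_dvd_of_pow_eq_one h3
  rw [ht] at h4
  norm_num at h4

/-- **`Fi₂₃` has a character of `5`-defect zero.** -/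
theorem hasDZ_five : Cfsg.Agent.H665.NoPQ.HasDZ 5 Fi23 := by
  have hfin : Finite Fi23 := Nat.finite_of_card_ne_zero (by rw [card_G]; norm_num)
  have := Fintype.ofFinite Fi23
  rcases dz_or_le split5 card_S7 (fun t ht => by
    obtain ⟨g, hg⟩ := Syl.conj_y5 (x := t) (by rw [← ht]; exact pow_orderOf_eq_one t) (by
      rintro rfl
      rw [orderOf_one] at ht
      norm_num at ht)
    exact ⟨g, 1, by rw [hg, u_one ord5]⟩) no25 with h | h
  · exact h
  · have h1 := Cfsg.Agent.H853.FiK.Fi23.card_conjClasses_fi23 (K := Fi23) ⟨MulEquiv.refl _⟩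
    have h2 := k_S7
    omega

theorem hasDZ_congr {A B : Type*} [Group A] [Group B] (e : A ≃* B) {p : ℕ} (h : Cfsg.Agent.H665.NoPQ.HasDZ p B) :
    Cfsg.Agent.H665.NoPQ.HasDZ p A := by
  obtain ⟨χ, hχ⟩ := h
  refine ⟨⟨(χ : B → ℂ) ∘ e.toMonoidHom, Cfsg.Agent.Characters.Core.isIrr_comp e.toMonoidHom e.surjective χ.2⟩, ?_⟩
  have h1 : charDegree ((χ : B → ℂ) ∘ e.toMonoidHom) = charDegree (χ : B → ℂ) := by
    unfold charDegree
    rw [Function.comp_apply, map_one]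
  show (charDegree ((χ : B → ℂ) ∘ e.toMonoidHom)).factorization p = _
  rw [h1, Nat.card_congr e.toEquiv]
  exact hχ

/-- **fi23_5.** -/
theorem fi23_5 {K : Type*} [Group K] (h : Spor.IsoFi23 K) : Cfsg.Agent.H665.NoPQ.HasDZ 5 K := by
  obtain ⟨e⟩ := h
  exact hasDZ_congr e hasDZ_five

end Cfsg.Agent.H759.LSix.FiTT

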