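import Cfsg.Agent.H593.CyclicSplit2
import Cfsg.Agent.Characters.Core

/-!
# The vertices of the tree (helper759; L6)

`comb` : from the matrix `a : B → Ω → ℤ` the coefficient vectors `co v`, `v : Option X`, with disjoint supports covering
`B`, entries `0, 1, -1`, and `∑_c co v c * A c ω = 1` for all `v, ω`.
-/

set_option autoImplicit false
set_option linter.unusedSectionVars false

namespace Cfsg.Agent.H759.LSix

open Cfsg

open scoped Classical in
theorem comb {J Ω Γ : Type*} [Fintype J] (B : Set J) [Fintype B] [Fintype Ω]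
    [Nonempty Ω] (e : ℕ) (he : 0 < e) (a : B → Ω → ℤ)
    (hgram : ∀ i j, ∑ c, a c i * a c j = (e : ℤ) + if i = j then 1 else 0)
    (hcard : Fintype.card B = e + Fintype.card Ω)
    (hrow : ∀ c, (∀ i, a c i = 1) ∨ (∀ i, a c i = -1) ∨
        (∃ i₀, ∀ i, a c i = if i = i₀ then 1 else 0) ∨
        (∃ i₀, ∀ i, a c i = if i = i₀ then -1 else 0))
    (val : J → Γ → ℂ) (o : Γ) (d : J → ℕ) (hd : ∀ c, 0 < d c) (ho : ∀ c, val c o = d c)
    (hval : ∀ i g, ∑ c : B, (a c i : ℂ) * val c g = 0) :
    ∃ (X Y : Set J) (A : J → Ω → ℤ) (co : Option X → J → ℤ) (ε : ℤ), B = X ∪ Y ∧ Disjoint X Y ∧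
      (∀ (c : J) (h : c ∈ B) (i : Ω), A c i = a ⟨c, h⟩ i) ∧ (∀ (c : J) (i : Ω), c ∉ B → A c i = 0) ∧
      2 ≤ Fintype.card (Option X) ∧
      (∀ v c, c ∉ B → co v c = 0) ∧
      (∀ v w c, v ≠ w → co v c * co w c = 0) ∧
      (∑ v, ∑ c, co v c ^ 2 = (Fintype.card B : ℤ)) ∧
      (∀ v i, ∑ c, co v c * A c i = 1) ∧
      (∀ c ∈ Y, ∀ c' ∈ Y, ∀ g, val c g = val c' g) ∧
      (∀ (x : X) (c : J), co (some x) c = if c = x then A c (Classical.arbitrary Ω) else 0) ∧
      (∀ (x : X) (i : Ω), A x i ^ 2 = 1) ∧ (∀ (x : X) (i j : Ω), A x i = A x j) ∧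
      (∀ c, co none c = if c ∈ Y then ε else 0) ∧ (ε = 1 ∨ ε = -1) ∧
      (∀ i, ∑ c, (if c ∈ Y then A c i else 0) = ε) ∧ (Fintype.card X = e) ∧ (0 < Fintype.card Y) := by
  classical
  obtain ⟨X, Y, εX, ε, hXY, hdis, hX, hY, h1, h2, h3, h4⟩ :=
    Cfsg.Agent.H593.CyclicSplit.split_set B e a (fun i j => by convert hgram i j) hcard
      (fun c => by
        rcases hrow c with h | h | ⟨i₀, h⟩ | ⟨i₀, h⟩
        · exact Or.inl h
        · exact Or.inr (Or.inl h)
        · exact Or.inr (Or.inr (Or.inl ⟨i₀, fun i => by convert h i⟩))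
        · exact Or.inr (Or.inr (Or.inr ⟨i₀, fun i => by convert h i⟩)))
      val o d hd ho hval
  have hXB : X ⊆ B := by rw [hXY]; exact Set.subset_union_left
  have hYB : Y ⊆ B := by rw [hXY]; exact Set.subset_union_right
  have hnXY : ∀ {c}, c ∈ X → c ∉ Y := fun hc hc' => Set.disjoint_left.1 hdis hc hc'
  let A : J → Ω → ℤ := fun c i => if h : c ∈ B then a ⟨c, h⟩ i else 0
  have hA : ∀ (c : J) (h : c ∈ B) (i : Ω), A c i = a ⟨c, h⟩ i := fun c h i => by simp only [A, dif_pos h]
  have hA0 : ∀ (c : J) (i : Ω), c ∉ B → A c i = 0 := fun c i h => by simp only [A, dif_neg h]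
  have hAX : ∀ c ∈ X, ∀ i, A c i = - εX c := fun c hc i => by rw [hA c (hXB hc)]; exact (h1 c hc).2 _ i
  have hεsq : ∀ c ∈ X, εX c ^ 2 = 1 := fun c hc => by
    rcases (h1 c hc).1 with h | h <;> rw [h] <;> norm_num
  have hε2 : ε ^ 2 = 1 := by rcases h2 with h | h <;> rw [h] <;> norm_num
  have hAY : ∀ c ∈ Y, ∀ i, A c i = ε * A c i ^ 2 := by
    intro c hc i
    rw [hA c (hYB hc)]
    have hs := h3 c hc (hYB hc)
    have hpos : 0 < Fintype.card Ω := Fintype.card_pos
    rcases hrow ⟨c, hYB hc⟩ with h | h | ⟨i₀, h⟩ | ⟨i₀, h⟩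
    · rw [Finset.sum_congr rfl fun i _ => h i, Finset.sum_const, Finset.card_univ, nsmul_eq_mul, mul_one] at hs
      have hε : ε = 1 := by
        rcases h2 with h | h
        · exact h
        · rw [h] at hs; omega
      rw [h i, hε]; norm_num
    · rw [Finset.sum_congr rfl fun i _ => h i, Finset.sum_const, Finset.card_univ, nsmul_eq_mul] at hs
      have hε : ε = -1 := by
        rcases h2 with h | h
        · rw [h] at hs; omega
        · exact h
      rw [h i, hε]; norm_num
    · rw [Finset.sum_congr rfl fun i _ => h i, Finset.sum_ite_eq' Finset.univ i₀, if_pos (Finset.mem_univ _)] at hs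
      rw [h i, ← hs]
      split_ifs <;> norm_num
    · rw [Finset.sum_congr rfl fun i _ => h i, Finset.sum_ite_eq' Finset.univ i₀, if_pos (Finset.mem_univ _)] at hs
      rw [h i, ← hs]
      split_ifs <;> norm_num
  have hcX : Fintype.card X = e := by rw [← Nat.card_eq_fintype_card]; exact hX
  have hcY : Fintype.card Y = Fintype.card Ω := by rw [← Nat.card_eq_fintype_card]; exact hY
  -- sums over `X`
  have hsumX : ∀ F : J → ℤ, (∀ c ∈ X, F c = 1) → ∑ c, (if c ∈ X then F c else 0) = e := by
    intro F hF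
    rw [← hcX, ← Finset.sum_filter, Finset.sum_congr rfl fun c hc => hF c (Finset.mem_filter.1 hc).2,
      Finset.sum_const, nsmul_eq_mul, mul_one, Fintype.card_subtype]
  have hsplit : ∀ F : J → ℤ, (∀ c, c ∉ B → F c = 0) →
      ∑ c, F c = ∑ c, (if c ∈ X then F c else 0) + ∑ c, (if c ∈ Y then F c else 0) := by
    intro F hF
    rw [← Finset.sum_add_distrib]
    refine Finset.sum_congr rfl fun c _ => ?_
    by_cases hcx : c ∈ X
    · rw [if_pos hcx, if_neg (hnXY hcx), add_zero]
    · by_cases hcy : c ∈ Y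
      · rw [if_neg hcx, if_pos hcy, zero_add]
      · rw [if_neg hcx, if_neg hcy, add_zero]
        apply hF
        rw [hXY]
        rintro (h | h)
        · exact hcx h
        · exact hcy h
  have hYsq : ∀ i, ∑ c, (if c ∈ Y then A c i ^ 2 else 0) = 1 := by
    intro i
    have hg := hgram i i
    rw [if_pos rfl] at hg
    have h5 : ∑ c : B, a c i * a c i = ∑ c : J, A c i ^ 2 := by
      rw [← Finset.sum_subset (Finset.subset_univ (Finset.univ.filter fun c : J => c ∈ B)), Finset.sum_subtype
        (p := fun c => c ∈ B)]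
      · refine Finset.sum_congr rfl fun c _ => ?_
        rw [hA _ c.2]
        ring
      · intro c
        rw [Finset.mem_filter]
        exact ⟨fun h => h.2, fun h => ⟨Finset.mem_univ _, h⟩⟩
      · intro c _ hc
        rw [hA0 c i (fun h => hc (Finset.mem_filter.2 ⟨Finset.mem_univ _, h⟩))]
        norm_num
    rw [h5, hsplit _ (fun c hc => by rw [hA0 c i hc]; norm_num),
      hsumX _ (fun c hc => by rw [hAX c hc i]; linear_combination hεsq c hc)] at hg
    linarith
  have hYs : ∀ i, ∑ c, (if c ∈ Y then A c i else 0) = ε := by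
    intro i
    have h5 : ∀ c, (if c ∈ Y then A c i else 0) = ε * (if c ∈ Y then A c i ^ 2 else 0) := by
      intro c
      by_cases hc : c ∈ Y
      · rw [if_pos hc, if_pos hc]
        exact hAY c hc i
      · rw [if_neg hc, if_neg hc, mul_zero]
    rw [Finset.sum_congr rfl fun c _ => h5 c, ← Finset.mul_sum, hYsq, mul_one]
  let co : Option X → J → ℤ := fun v c => match v with
    | some x => if c = x then A c (Classical.arbitrary Ω) else 0
    | none => if c ∈ Y then ε else 0
  have hcos : ∀ (x : X) (c : J), co (some x) c = if c = x then A c (Classical.arbitrary Ω) else 0 :=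
    fun x c => rfl
  have hcon : ∀ c, co none c = if c ∈ Y then ε else 0 := fun c => rfl
  have hAeq : ∀ (x : X) (i j : Ω), A x i = A x j := fun x i j => by rw [hAX x x.2, hAX x x.2]
  have hAsq : ∀ (x : X) (i : Ω), A x i ^ 2 = 1 := fun x i => by
    rw [hAX x x.2]; linear_combination hεsq x x.2
  refine ⟨X, Y, A, co, ε, hXY, hdis, hA, hA0, ?_, ?_, ?_, ?_, ?_, ?_, hcos, hAsq, hAeq, hcon, h2, hYs, hcX, ?_⟩
  · rw [Fintype.card_option, hcX]; omega
  · rintro (_ | x) c hc
    · rw [hcon, if_neg (fun h => hc (hYB h))]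
    · rw [hcos, if_neg]
      rintro rfl
      exact hc (hXB x.2)
  · rintro (_ | x) (_ | x') c hvw
    · exact absurd rfl hvw
    · rw [hcon, hcos]
      by_cases hc : c = x'
      · rw [if_neg (c := c ∈ Y) (by rw [hc]; exact hnXY x'.2), zero_mul]
      · rw [if_neg hc, mul_zero]
    · rw [hcon, hcos]
      by_cases hc : c = x
      · rw [if_neg (c := c ∈ Y) (by rw [hc]; exact hnXY x.2), mul_zero]
      · rw [if_neg hc, zero_mul]
    · rw [hcos, hcos]
      by_cases hc : c = x
      · rw [if_neg (c := c = x'), mul_zero]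
        intro hc'
        exact hvw (congrArg some (Subtype.ext (hc.symm.trans hc')))
      · rw [if_neg hc, zero_mul]
  · rw [Fintype.sum_option]
    have e1 : ∑ c, co none c ^ 2 = Fintype.card Y := by
      have h5 : ∀ c, co none c ^ 2 = if c ∈ Y then 1 else 0 := by
        intro c
        rw [hcon]
        split_ifs
        · exact hε2
        · norm_num
      rw [Finset.sum_congr rfl fun c _ => h5 c, Finset.sum_boole, Fintype.card_subtype]
    have e2 : ∀ x : X, ∑ c, co (some x) c ^ 2 = 1 := by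
      intro x
      rw [Finset.sum_eq_single (x : J)]
      · rw [hcos, if_pos rfl, hAsq]
      · intro c _ hc
        rw [hcos, if_neg hc]
        norm_num
      · intro h
        exact absurd (Finset.mem_univ _) h
    rw [e1, Finset.sum_congr rfl fun x _ => e2 x, Finset.sum_const, Finset.card_univ, nsmul_eq_mul, mul_one, hcX,
      hcY, hcard]
    push_cast
    ring
  · rintro (_ | x) i
    · rw [Finset.sum_congr rfl fun c _ => show co none c * A c i = ε * (if c ∈ Y then A c i else 0) by
        rw [hcon]; split_ifs <;> ring, ← Finset.mul_sum, hYs]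
      linear_combination hε2
    · rw [Finset.sum_eq_single (x : J)]
      · rw [hcos, if_pos rfl, hAeq x (Classical.arbitrary Ω) i]
        linear_combination hAsq x i
      · intro c _ hc
        rw [hcos, if_neg hc, zero_mul]
      · intro h
        exact absurd (Finset.mem_univ _) h
  · intro c hc c' hc' g
    have h5 := h4 c hc g
    have h6 := h4 c' hc' g
    rw [← h6] at h5
    have h7 : (ε : ℂ) ≠ 0 := by
      rcases h2 with h | h <;> rw [h] <;> norm_num
    exact mul_left_cancel₀ h7 h5
  · rw [hcY]; exact Fintype.card_pos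

end Cfsg.Agent.H759.LSix
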