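import Cfsg.Agent.H759.LSix.Struct
import Cfsg.Agent.H759.LSix.Comb

/-!
# The family of a block with a Sylow subgroup of order `p` (helper759; L6)

`block_family` : for a block `B` with a member of degree prime to `p` there are generalised characters `δ v`
(`v` in a type with at least two elements) with pairwise orthogonal supports in `B`, differences vanishing on the
`p`-singular elements, `∑ ‖δ v‖² = |B|`, and which are complete: a class function vanishing on the `p`-singular
elements and orthogonal to all differences is orthogonal to `B`.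
-/

set_option autoImplicit false
set_option linter.unusedSectionVars false

namespace Cfsg.Agent.H759.LSix

open Cfsg ZMod
open scoped ComplexConjugate
open Cfsg.Agent.Blocks.Local
open Cfsg.Agent.Blocks.Basic
open Cfsg.Agent.Blocks.CyclicGroup
open Cfsg.Agent.H593
open Cfsg.Agent.H593.D1Local
open Cfsg.Agent.H593.D1Char
open Cfsg.Agent.H593.D1Sec
open Cfsg.Agent.H593.D1Gram
open Cfsg.Agent.H593.D1Block
open Cfsg.Agent.H593.D1Block2
open Cfsg.Agent.H593.D1Block3
open Cfsg.Agent.Characters.Core (isIrr_isClassFunction finite_irr classFunction_eq_sum classInner_def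
  classInner_sum_smul_sum_smul classInner_self_eq_ofReal classInner_sum_smul_irr classInner_sub_right
  classInner_sum_right classInner_smul_right)

universe u

variable {G : Type u} [Group G] [Fintype G] {p : ℕ} [hp : Fact p.Prime] {P K : Subgroup G}

/-- the norm of an integral combination -/
theorem nrm_comb [Fintype (IrrCharacter G)] (n : IrrCharacter G → ℤ) :
    nrm (fun g : G => ∑ c : IrrCharacter G, (n c : ℂ) * (c : G → ℂ) g) = ((∑ c, n c ^ 2 : ℤ) : ℝ) := by
  have h1 := classInner_self_eq_ofReal (fun g : G => ∑ c : IrrCharacter G, (n c : ℂ) * (c : G → ℂ) g)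
  have h2 : (fun g : G => ∑ c : IrrCharacter G, (n c : ℂ) * (c : G → ℂ) g) =
      ∑ c : IrrCharacter G, (n c : ℂ) • (c : G → ℂ) := by
    funext g
    rw [Finset.sum_apply]
    rfl
  have h3 := classInner_sum_smul_sum_smul (fun c : IrrCharacter G => (n c : ℂ)) (fun c : IrrCharacter G => (n c : ℂ))
  rw [← h2, h1] at h3
  have h4 : ((nrm (fun g : G => ∑ c : IrrCharacter G, (n c : ℂ) * (c : G → ℂ) g) : ℝ) : ℂ) =
      (((∑ c, n c ^ 2 : ℤ) : ℝ) : ℂ) := by
    unfold nrm
    rw [h3]
    push_cast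
    exact Finset.sum_congr rfl fun c _ => by rw [map_intCast (starRingEnd ℂ), sq]
  exact_mod_cast h4

/-- Conjugating a `p`-singular element into `P^# × L`. -/
theorem exists_conj_mul (h : Loc p P K) (hG : (Nat.card G).factorization p = 1) {z : G} (hz : orderOf z = p)
    (hzP : z ∈ P) {y : G} (hy : p ∣ orderOf y) :
    ∃ (g : G) (m : ZMod p) (l : LL P K), m ≠ 0 ∧ g * y * g⁻¹ = u z m * ((l : K) : G) := by
  have hoy : orderOf y ≠ 0 := (orderOf_pos y).ne'
  set t := y ^ (orderOf y / p) with ht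
  have hto : orderOf t = p := orderOf_pow_orderOf_div hoy hy
  have hPc : Nat.card P = p ^ (Nat.card G).factorization p := by rw [h.card, hG, pow_one]
  have hTc : Nat.card (Subgroup.zpowers t) = p ^ (Nat.card G).factorization p := by
    rw [Nat.card_zpowers, hto, hG, pow_one]
  obtain ⟨g, hg⟩ := MulAction.exists_smul_eq G (Sylow.ofCard (Subgroup.zpowers t) hTc) (Sylow.ofCard P hPc)
  have hgt : g * t * g⁻¹ ∈ P := by
    have h1 : MulAut.conj g • t ∈ ((g • Sylow.ofCard (Subgroup.zpowers t) hTc : Sylow p G) : Subgroup G) := by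
      rw [Sylow.coe_subgroup_smul]
      exact Subgroup.smul_mem_pointwise_smul _ _ _ (Subgroup.mem_zpowers t)
    rw [hg] at h1
    exact h1
  have hgt1 : g * t * g⁻¹ ≠ 1 := by
    intro h1
    rw [conj_eq_one_iff] at h1
    rw [h1, orderOf_one] at hto
    exact hp.out.one_lt.ne hto
  have hC : g * y * g⁻¹ ∈ Subgroup.centralizer (P : Set G) := by
    rw [centralizer_eq h hgt hgt1, Subgroup.mem_centralizer_singleton_iff]
    have h1 : Commute y t := (Commute.refl y).pow_right _
    calc g * y * g⁻¹ * (g * t * g⁻¹) = g * (y * t) * g⁻¹ := by group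
      _ = g * (t * y) * g⁻¹ := by rw [h1.eq]
      _ = g * t * g⁻¹ * (g * y * g⁻¹) := by group
  obtain ⟨s, l, hsl⟩ := h.dec hC
  obtain ⟨m, hm⟩ := exists_u_of_mem hz (x := (s : G)) (by rw [zpowers_eq h hz hzP]; exact s.2)
  refine ⟨g, m, l, ?_, by rw [hsl, hm]⟩
  rintro rfl
  rw [u_zero] at hm
  rw [← hm, one_mul] at hsl
  apply h.not_dvd_orderOf (l : K)
  rw [← hsl]
  have h2 : orderOf (g * y * g⁻¹) = orderOf y := (MulAut.conj g).orderOf_eq y
  rwa [h2]

section block

variable (h : Loc p P K) {M : Ideal AlgInt} [hMp : M.IsPrime] (hM : IsPModular p M)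
    {B : Set (IrrCharacter G)} (hB : IsPBlock M B) (hBP : IsDefectGroup p M B P)
    {θ : IrrCharacter (LL P K)}
    (hind : IsInducedBlock M (Subgroup.centralizer (P : Set G))
      (blockOf M (infl h θ : Subgroup.centralizer (P : Set G) → ℂ)) B)
    {z : G} (hz : orderOf z = p) (hzP : z ∈ P)

include hM hB hBP hind hz hzP

/-- combinations orthogonal to the rows vanish on the `p`-singular elements -/
theorem vanS_of [Fintype (IrrCharacter G)] [Fintype K] [Fintype (LL P K)]
    (hG : (Nat.card G).factorization p = 1) {Ω : Type} (q : (ZMod p)ˣ → Ω) (A : IrrCharacter G → Ω → ℤ)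
    (hDD : ∀ (χ : IrrCharacter G) (m : ZMod p), χ ∈ B → m ≠ 0 → DD (θ : LL P K → ℂ) (χ : G → ℂ) (u z m) =
        ∑ i : (ZMod p)ˣ, (A χ (q i) : ℂ) * (stdAddChar ((i : ZMod p) * m) : ℂ))
    (d : IrrCharacter G → ℤ) (hdB : ∀ c, c ∉ B → d c = 0) (hd : ∀ ω, ∑ c, d c * A c ω = 0) :
    VanS p (fun g : G => ∑ c : IrrCharacter G, (d c : ℂ) * (c : G → ℂ) g) := by
  intro y hy
  obtain ⟨g, m, l, hm, hgy⟩ := exists_conj_mul h hG hz hzP hy
  have hS0 : (Nat.card (stab h θ) : ℂ) ≠ 0 := by exact_mod_cast Nat.card_pos.ne'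
  have hu1 : ∀ m : ZMod p, m ≠ 0 → u z m ≠ 1 := fun m hm h => hm ((u_eq_one_iff hz).1 h)
  have huP := u_mem_P h hz hzP
  -- columns
  have hcol : ∀ m : ZMod p, m ≠ 0 → ∑ c : IrrCharacter G, (d c : ℂ) * DD (θ : LL P K → ℂ) (c : G → ℂ) (u z m) = 0 := by
    intro m hm
    have h1 : ∀ c : IrrCharacter G, (d c : ℂ) * DD (θ : LL P K → ℂ) (c : G → ℂ) (u z m) =
        ∑ i : (ZMod p)ˣ, (stdAddChar ((i : ZMod p) * m) : ℂ) * ((d c * A c (q i) : ℤ) : ℂ) := by
      intro c
      by_cases hc : c ∈ B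
      · rw [hDD c m hc hm, Finset.mul_sum]
        refine Finset.sum_congr rfl fun i _ => ?_
        push_cast
        ring
      · rw [hdB c hc, Int.cast_zero, zero_mul]
        symm
        refine Finset.sum_eq_zero fun i _ => ?_
        rw [zero_mul, Int.cast_zero, mul_zero]
    rw [Finset.sum_congr rfl fun c _ => h1 c, Finset.sum_comm]
    refine Finset.sum_eq_zero fun i _ => ?_
    rw [← Finset.mul_sum, ← Int.cast_sum, hd, Int.cast_zero, mul_zero]
  show ∑ c : IrrCharacter G, (d c : ℂ) * (c : G → ℂ) y = 0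
  apply mul_left_cancel₀ hS0
  rw [mul_zero]
  have h2 : ∀ c : IrrCharacter G, (Nat.card (stab h θ) : ℂ) * ((d c : ℂ) * (c : G → ℂ) y) =
      ∑ k : K, (θ : LL P K → ℂ) ⟨k * l * k⁻¹, h.normal.conj_mem l l.2 k⟩ *
        ((d c : ℂ) * DD (θ : LL P K → ℂ) (c : G → ℂ) ((k : G) * u z m * (k : G)⁻¹)) := by
    intro c
    by_cases hc : c ∈ B
    · rw [← irr_conj c.2 y g, hgy, mul_left_comm, apply_eq h hM hB hBP hind hc (huP m) (hu1 m hm) l, Finset.mul_sum]
      exact Finset.sum_congr rfl fun k _ => by ring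
    · rw [hdB c hc, Int.cast_zero, zero_mul, mul_zero]
      symm
      exact Finset.sum_eq_zero fun k _ => by rw [zero_mul, mul_zero]
  rw [Finset.mul_sum, Finset.sum_congr rfl fun c _ => h2 c, Finset.sum_comm]
  refine Finset.sum_eq_zero fun k _ => ?_
  obtain ⟨c, hc⟩ := exists_conj_u h hz hzP k
  rw [← Finset.mul_sum, hc m, hcol _ (mul_ne_zero (Units.ne_zero c) hm), mul_zero]

omit hBP in
/-- orthogonality of the `B`-part -/
theorem sum_inner_eq_zero [Fintype (IrrCharacter G)] [Fintype K] [Fintype (LL P K)]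
    {Ω : Type} (Wt : Ω → ZMod p → ℂ) (A : IrrCharacter G → Ω → ℤ)
    (hA0 : ∀ (c : IrrCharacter G) (ω : Ω), c ∉ B → A c ω = 0)
    (hW : ∀ (χ : IrrCharacter G) (ω : Ω), χ ∈ B → (A χ ω : ℂ) = ∑ m : ZMod p, Wt ω m *
        conj (DD (θ : LL P K → ℂ) (χ : G → ℂ) (u z m))) (hW0 : ∀ ω, Wt ω 0 = 0)
    {f : G → ℂ} (hf : IsClassFunction G f) (hfv : VanS p f) (ω : Ω) :
    ∑ c : IrrCharacter G, classInner f (c : G → ℂ) * (A c ω : ℂ) = 0 := by
  have hu1 : ∀ m : ZMod p, m ≠ 0 → u z m ≠ 1 := fun m hm h => hm ((u_eq_one_iff hz).1 h)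
  have huP := u_mem_P h hz hzP
  have h1 : ∀ m : ZMod p, m ≠ 0 →
      ∑ c : IrrCharacter G, classInner f (c : G → ℂ) * DD (θ : LL P K → ℂ) (c : G → ℂ) (u z m) = 0 := by
    intro m hm
    have e1 : ∑ c : IrrCharacter G, classInner f (c : G → ℂ) * DD (θ : LL P K → ℂ) (c : G → ℂ) (u z m) =
        DD (θ : LL P K → ℂ) f (u z m) := by
      conv_rhs => rw [classFunction_eq_sum hf, DD_def]
      have e2 : ∀ l : LL P K, (∑ χ : IrrCharacter G, classInner f (χ : G → ℂ) • (χ : G → ℂ)) (u z m * ((l : K) : G)) *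
          conj ((θ : LL P K → ℂ) l) = ∑ χ : IrrCharacter G, classInner f (χ : G → ℂ) *
            ((χ : G → ℂ) (u z m * ((l : K) : G)) * conj ((θ : LL P K → ℂ) l)) := by
        intro l
        rw [Finset.sum_apply, Finset.sum_mul]
        exact Finset.sum_congr rfl fun χ _ => by rw [Pi.smul_apply, smul_eq_mul, mul_assoc]
      rw [Finset.sum_congr rfl fun l _ => e2 l, Finset.sum_comm, Finset.mul_sum]
      refine Finset.sum_congr rfl fun χ _ => ?_
      rw [DD_def, ← Finset.mul_sum]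
      ring
    rw [e1, DD_def, Finset.sum_eq_zero, mul_zero]
    intro l _
    rw [hfv _ (h.dvd_orderOf (huP m) (hu1 m hm) l), zero_mul]
  have h2 : ∀ c : IrrCharacter G, classInner f (c : G → ℂ) * (A c ω : ℂ) = ∑ m : ZMod p, conj (Wt ω m) *
      (classInner f (c : G → ℂ) * DD (θ : LL P K → ℂ) (c : G → ℂ) (u z m)) := by
    intro c
    by_cases hc : c ∈ B
    · have h3 := congrArg conj (hW c ω hc)
      rw [map_intCast (starRingEnd ℂ), map_sum] at h3
      rw [h3, Finset.mul_sum]
      refine Finset.sum_congr rfl fun m _ => ?_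
      rw [map_mul, Complex.conj_conj]
      ring
    · rw [hA0 c ω hc, Int.cast_zero, mul_zero]
      symm
      refine Finset.sum_eq_zero fun m _ => ?_
      by_cases hm : m = 0
      · rw [hm, hW0, map_zero, zero_mul]
      · rw [DD_eq_zero h hM hB hind hc (huP m) (hu1 m hm), mul_zero, mul_zero]
  rw [Finset.sum_congr rfl fun c _ => h2 c, Finset.sum_comm]
  refine Finset.sum_eq_zero fun m _ => ?_
  by_cases hm : m = 0
  · subst hm
    rw [hW0, map_zero]
    exact Finset.sum_eq_zero fun c _ => zero_mul _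
  · rw [← Finset.mul_sum, h1 m hm, mul_zero]

end block

end Cfsg.Agent.H759.LSix
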