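import Cfsg.Agent.H759.LSix.Block
import Cfsg.Agent.S0906
import Cfsg.Agent.S0908

/-!
# The family of a block, assembled (helper759; L6)
-/

set_option autoImplicit false
set_option linter.unusedSectionVars false

namespace Cfsg.Agent.H759.LSix

open Cfsg ZMod
open scoped ComplexConjugate
open Cfsg.Agent.Blocks.Local
open Cfsg.Agent.Blocks.Basic
open Cfsg.Agent.Blocks.CyclicGroup
open Cfsg.Agent.H593
open Cfsg.Agent.H593.D1Local
open Cfsg.Agent.H593.D1Char
open Cfsg.Agent.H593.D1Sec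
open Cfsg.Agent.H593.D1Gram
open Cfsg.Agent.H593.D1Block
open Cfsg.Agent.H593.D1Block2
open Cfsg.Agent.H593.D1Block3
open Cfsg.Agent.Characters.Core (isIrr_isClassFunction finite_irr classFunction_eq_sum classInner_def
  classInner_sum_smul_sum_smul classInner_self_eq_ofReal classInner_sum_smul_irr classInner_sub_right
  classInner_sum_right classInner_smul_right)

universe u

variable {G : Type u} [Group G] [Fintype G] {p : ℕ} [hp : Fact p.Prime] {P K : Subgroup G}

/-- an irreducible character of `L` in a nonvanishing section -/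
theorem exists_theta (h : Loc p P K) [Fintype (LL P K)] (χ : IrrCharacter G) {x : G} (hx : x ∈ P)
    (hne : (χ : G → ℂ) x ≠ 0) : ∃ θ : IrrCharacter (LL P K), DD (θ : LL P K → ℂ) (χ : G → ℂ) x ≠ 0 := by
  classical
  have := finite_irr (G := LL P K)
  have := Fintype.ofFinite (IrrCharacter (LL P K))
  by_contra hcon
  push Not at hcon
  have hcl : IsClassFunction (LL P K) (fun l : LL P K => (χ : G → ℂ) (x * ((l : K) : G))) := by
    intro c d
    show (χ : G → ℂ) (x * (((d : K) : G) * ((c : K) : G) * ((d : K) : G)⁻¹)) =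
      (χ : G → ℂ) (x * ((c : K) : G))
    have h2 : x * (((d : K) : G) * ((c : K) : G) * ((d : K) : G)⁻¹) =
        ((d : K) : G) * (x * ((c : K) : G)) * ((d : K) : G)⁻¹ := by
      have := (h.comm hx (mem_LL.1 d.2)).eq
      calc x * (((d : K) : G) * ((c : K) : G) * ((d : K) : G)⁻¹)
          = (x * ((d : K) : G)) * ((c : K) : G) * ((d : K) : G)⁻¹ := by group
        _ = (((d : K) : G) * x) * ((c : K) : G) * ((d : K) : G)⁻¹ := by rw [this]
        _ = ((d : K) : G) * (x * ((c : K) : G)) * ((d : K) : G)⁻¹ := by group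
    rw [h2, irr_conj χ.2]
  have h3 := congrFun (classFunction_eq_sum hcl) 1
  rw [Finset.sum_apply] at h3
  have h4 : (χ : G → ℂ) (x * (((1 : LL P K) : K) : G)) = ∑ θ' : IrrCharacter (LL P K),
      DD (θ' : LL P K → ℂ) (χ : G → ℂ) x * (θ' : LL P K → ℂ) 1 := h3
  rw [Finset.sum_eq_zero fun θ' _ => by rw [hcon θ', zero_mul]] at h4
  apply hne
  rw [← h4]
  simp

/-- the order of the defect group -/
theorem card_defect {M : Ideal AlgInt} (hM : IsPModular p M) {B : Set (IrrCharacter G)} (hB : IsPBlock M B)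
    (hG : (Nat.card G).factorization p = 1) {χ₀ : IrrCharacter G} (hχ₀ : χ₀ ∈ B)
    (hd : ¬ p ∣ charDegree (χ₀ : G → ℂ)) {D : Subgroup G} (hD : IsDefectGroup p M B D) : Nat.card D = p := by
  have h1 := Cfsg.Agent.S0908.result p M hM B hB D hD
  have h2 : sInf ((fun χ : IrrCharacter G => (charDegree (χ : G → ℂ)).factorization p) '' B) = 0 := by
    apply Nat.le_zero.1
    have h3 : sInf ((fun χ : IrrCharacter G => (charDegree (χ : G → ℂ)).factorization p) '' B) ≤
        (charDegree (χ₀ : G → ℂ)).factorization p := Nat.sInf_le ⟨χ₀, hχ₀, rfl⟩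
    exact h3.trans (Nat.factorization_eq_zero_of_not_dvd hd).le
  rw [blockDefect_def, h2, hG, Nat.sub_zero, pow_one] at h1
  exact h1

/-- **The family of a block of positive defect.** -/
theorem block_family {M : Ideal AlgInt} (hM : IsPModular p M) {B : Set (IrrCharacter G)} (hB : IsPBlock M B)
    (hG : (Nat.card G).factorization p = 1) {χ₀ : IrrCharacter G} (hχ₀ : χ₀ ∈ B)
    (hd : ¬ p ∣ charDegree (χ₀ : G → ℂ)) :
    ∃ (V : Type u) (_ : Fintype V) (δ : V → G → ℂ), 2 ≤ Fintype.card V ∧ (∀ v, IsGen (δ v)) ∧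
      (∀ v w, VanS p (δ v - δ w)) ∧ (∀ v w, v ≠ w → nrm (δ v - δ w) = nrm (δ v) + nrm (δ w)) ∧
      ∑ v, nrm (δ v) = Nat.card B ∧
      (∀ f : G → ℂ, IsClassFunction G f → VanS p f → (∀ v w, classInner f (δ v - δ w) = 0) →
        ∀ χ ∈ B, classInner f (χ : G → ℂ) = 0) := by
  classical
  have hMp : M.IsPrime := hM.2.1.isPrime
  have hfin := finite_irr (G := G)
  have := Fintype.ofFinite (IrrCharacter G)
  have : Fintype B := Fintype.ofFinite _
  obtain ⟨g, hg⟩ := Cfsg.Agent.S0906.result p M hM B hB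
  obtain ⟨P₀⟩ : Nonempty (Sylow p (Subgroup.centralizer ({g} : Set G))) := inferInstance
  obtain ⟨P, hBP⟩ : ∃ P : Subgroup G, IsDefectGroup p M B P := ⟨_, g, hg, P₀, rfl⟩
  have hPc := card_defect hM hB hG hχ₀ hd hBP
  obtain ⟨K, h⟩ := exists_loc (Sylow.ofCard P (by rw [hPc, hG, pow_one])) hPc
  have h : Loc p P K := h
  have := Fintype.ofFinite K
  have := Fintype.ofFinite (LL P K)
  obtain ⟨z, hzP, hz1⟩ : ∃ z ∈ P, z ≠ 1 := by
    by_contra hcon
    push Not at hcon
    have : P = ⊥ := (Subgroup.eq_bot_iff_forall _).2 hcon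
    rw [this, Subgroup.card_bot] at hPc
    exact hp.out.one_lt.ne hPc
  have hz : orderOf z = p := h.mem_pow hzP hz1
  have hu1 : ∀ m : ZMod p, m ≠ 0 → u z m ≠ 1 := fun m hm h => hm ((u_eq_one_iff hz).1 h)
  have huP := u_mem_P h hz hzP
  obtain ⟨m₀, hm₀, hne⟩ := exists_apply_ne h hM hB hBP hG hz hχ₀
  obtain ⟨θ, hθ⟩ := exists_theta h χ₀ (huP m₀) hne
  have hind := induced_of_ne h hM (huP m₀) (hu1 m₀ hm₀) hB hχ₀ hθ
  obtain ⟨e, Ω, _, _, q, Wt, a, he, hcard, hrow, hgram, hWt, hWt0, hform⟩ :=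
    structure' h hM hB hBP hind hz hzP hG
  have hval : ∀ (ω : Ω) (g : {g : G // ¬ p ∣ orderOf g}),
      ∑ c : B, (a c ω : ℂ) * ((c : IrrCharacter G) : G → ℂ) g = 0 := by
    intro ω g
    have h2 : ∀ c : B, (a c ω : ℂ) * ((c : IrrCharacter G) : G → ℂ) g =
        ∑ m : ZMod p, Wt ω m * (((c : IrrCharacter G) : G → ℂ) g *
          (starRingEnd ℂ) (DD (θ : LL P K → ℂ) ((c : IrrCharacter G) : G → ℂ) (u z m))) := by
      intro c
      rw [hWt, Finset.sum_mul]
      exact Finset.sum_congr rfl fun m _ => by ring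
    rw [Finset.sum_congr rfl fun c _ => h2 c, Finset.sum_comm]
    refine Finset.sum_eq_zero fun m _ => ?_
    rw [← Finset.mul_sum]
    by_cases hm : m = 0
    · rw [hm, hWt0, zero_mul]
    · rw [sum_block_eq h hM hB hind (huP m) (hu1 m hm)
        (fun χ => (χ : G → ℂ) g), sum_DD, Finset.sum_eq_zero, mul_zero, mul_zero]
      intro l _
      rw [Cfsg.Agent.H593.D1Lower.card_filter_regular h (huP m) (hu1 m hm) l g.2, Nat.cast_zero,
        mul_zero]
  have hone : ¬ p ∣ orderOf (1 : G) := by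
    rw [orderOf_one]; exact hp.out.one_lt.ne' ∘ Nat.dvd_one.1
  obtain ⟨X, Y, A, co, ε, hXY, hdis, hA, hA0, hV2, hcoB, hcodis, hcosum, hcoA, hYeq, hcos, hAsq, hAeq, hcon, hε, hYs,
      hcX, hcY⟩ := comb B e he a (fun i j => by convert hgram i j) hcard
    (fun c => by
      rcases hrow c with h | h | ⟨i₀, h⟩ | ⟨i₀, h⟩
      · exact Or.inl h
      · exact Or.inr (Or.inl h)
      · exact Or.inr (Or.inr (Or.inl ⟨i₀, fun i => by convert h i⟩))
      · exact Or.inr (Or.inr (Or.inr ⟨i₀, fun i => by convert h i⟩)))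
    (fun (c : IrrCharacter G) (g : {g : G // ¬ p ∣ orderOf g}) => (c : G → ℂ) g)
    ⟨1, hone⟩ (fun c => charDegree (c : G → ℂ))
    (fun c => charDegree_pos c.2) (fun c => irr_one_eq_charDegree c.2) hval
  have hYB : Y ⊆ B := by rw [hXY]; exact Set.subset_union_right
  let δ : Option X → G → ℂ := fun v g => ∑ c : IrrCharacter G, (co v c : ℂ) * (c : G → ℂ) g
  have hδsub : ∀ v w, δ v - δ w = fun g => ∑ c : IrrCharacter G, ((co v c - co w c : ℤ) : ℂ) * (c : G → ℂ) g := by
    intro v w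
    funext g
    show (∑ c : IrrCharacter G, (co v c : ℂ) * (c : G → ℂ) g) - (∑ c : IrrCharacter G, (co w c : ℂ) * (c : G → ℂ) g) = _
    rw [← Finset.sum_sub_distrib]
    exact Finset.sum_congr rfl fun c _ => by push_cast; ring
  refine ⟨Option X, inferInstance, δ, ?_, ?_, ?_, ?_, ?_, ?_⟩
  · convert hV2
  · intro v
    exact ⟨Finset.univ, co v, rfl⟩
  · intro v w
    rw [hδsub]
    refine vanS_of h hM hB hBP hind hz hzP hG q A ?_ _ ?_ ?_
    · intro χ m hχ hm
      rw [hform ⟨χ, hχ⟩ m hm]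
      exact Finset.sum_congr rfl fun i _ => by rw [hA χ hχ]
    · intro c hc
      rw [hcoB v c hc, hcoB w c hc, sub_self]
    · intro ω
      rw [Finset.sum_congr rfl fun c _ => sub_mul _ _ _, Finset.sum_sub_distrib, hcoA, hcoA, sub_self]
  · intro v w hvw
    rw [hδsub, nrm_comb, show nrm (δ v) = _ from nrm_comb (co v), show nrm (δ w) = _ from nrm_comb (co w),
      ← Int.cast_add, ← Finset.sum_add_distrib]
    congr 1
    exact Finset.sum_congr rfl fun c _ => by linear_combination (-2) * hcodis v w c hvw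
  · rw [Finset.sum_congr rfl fun v _ => (show nrm (δ v) = _ from nrm_comb (co v)), ← Int.cast_sum,
      Nat.card_eq_fintype_card]
    have h9 : ∑ v, ∑ c, co v c ^ 2 = (Fintype.card B : ℤ) := by convert hcosum
    rw [h9]
    norm_cast
  · intro f hf hfv hdiff
    have hsum := fun ω => sum_inner_eq_zero h hM hB hind hz hzP Wt A hA0
      (fun χ ω hχ => by rw [hA χ hχ]; exact hWt ⟨χ, hχ⟩ ω) hWt0 hf hfv ω
    set c : IrrCharacter G → ℂ := fun χ => classInner f (χ : G → ℂ) with hc
    -- the common value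
    have hin : ∀ v, classInner f (δ v) = ∑ ψ : IrrCharacter G, (co v ψ : ℂ) * c ψ := by
      intro v
      have h2 : δ v = ∑ ψ : IrrCharacter G, (co v ψ : ℂ) • (ψ : G → ℂ) := by
        funext g
        rw [Finset.sum_apply]
        rfl
      rw [h2, classInner_sum_right]
      exact Finset.sum_congr rfl fun ψ _ => by rw [classInner_smul_right, map_intCast (starRingEnd ℂ)]
    obtain ⟨κ, hκ⟩ : ∃ κ, κ = classInner f (δ none) := ⟨_, rfl⟩
    have hall : ∀ v, ∑ ψ : IrrCharacter G, (co v ψ : ℂ) * c ψ = κ := by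
      intro v
      rw [← hin, hκ]
      have h3 := hdiff v none
      rw [classInner_sub_right] at h3
      exact sub_eq_zero.1 h3
    -- the members of `X`
    have hXv : ∀ x : X, ∀ ω, c x = κ * A x ω := by
      intro x ω
      have h3 := hall (some x)
      rw [Finset.sum_eq_single (x : IrrCharacter G)] at h3
      · rw [hcos, if_pos rfl, hAeq x _ ω] at h3
        have h4 : ((A x ω : ℤ) : ℂ) ^ 2 = 1 := by exact_mod_cast hAsq x ω
        rw [← h3]
        linear_combination (-(c x)) * h4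
      · intro ψ _ hψ
        rw [hcos, if_neg hψ, Int.cast_zero, zero_mul]
      · intro h
        exact absurd (Finset.mem_univ _) h
    -- the members of `Y`
    obtain ⟨ψ₀, hψ₀⟩ : ∃ ψ₀ : IrrCharacter G, ψ₀ ∈ Y := by
      obtain ⟨y⟩ := Fintype.card_pos_iff.1 hcY
      exact ⟨y, y.2⟩
    have hYv : ∀ ψ ∈ Y, c ψ = c ψ₀ := by
      intro ψ hψ
      show classInner f (ψ : G → ℂ) = classInner f (ψ₀ : G → ℂ)
      rw [Cfsg.Agent.Characters.Core.classInner_def, Cfsg.Agent.Characters.Core.classInner_def]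
      congr 1
      refine Finset.sum_congr rfl fun g _ => ?_
      by_cases hg : p ∣ orderOf g
      · rw [hfv g hg, zero_mul, zero_mul]
      · rw [hYeq ψ hψ ψ₀ hψ₀ ⟨g, hg⟩]
    have hεε : (ε : ℂ) * ε = 1 := by
      rcases hε with h | h <;> rw [h] <;> norm_num
    have h5 : (ε : ℂ) * ((Fintype.card Y : ℂ) * c ψ₀) = κ := by
      rw [← hall none]
      have h6 : ∀ ψ : IrrCharacter G, (co none ψ : ℂ) * c ψ = (ε : ℂ) * (if ψ ∈ Y then c ψ₀ else 0) := by
        intro ψ
        rw [hcon]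
        by_cases hψ : ψ ∈ Y
        · rw [if_pos hψ, if_pos hψ, hYv ψ hψ]
        · rw [if_neg hψ, if_neg hψ, Int.cast_zero, zero_mul, mul_zero]
      rw [Finset.sum_congr rfl fun ψ _ => h6 ψ, ← Finset.mul_sum, ← Finset.sum_filter, Finset.sum_const,
        nsmul_eq_mul, Fintype.card_subtype]
    -- the sum
    obtain ⟨ω⟩ : Nonempty Ω := inferInstance
    have h7 : ∑ ψ : IrrCharacter G, c ψ * (A ψ ω : ℂ) = (e : ℂ) * κ + c ψ₀ * ε := by
      have h8 : ∀ ψ : IrrCharacter G, c ψ * (A ψ ω : ℂ) = (if ψ ∈ X then κ else 0) +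
          c ψ₀ * (((if ψ ∈ Y then A ψ ω else 0 : ℤ)) : ℂ) := by
        intro ψ
        by_cases hx : ψ ∈ X
        · have hy : ψ ∉ Y := fun hy => Set.disjoint_left.1 hdis hx hy
          rw [if_pos hx, if_neg hy, Int.cast_zero, mul_zero, add_zero, hXv ⟨ψ, hx⟩ ω]
          have h4 : ((A ψ ω : ℤ) : ℂ) ^ 2 = 1 := by exact_mod_cast hAsq ⟨ψ, hx⟩ ω
          linear_combination κ * h4
        · by_cases hy : ψ ∈ Y
          · rw [if_neg hx, if_pos hy, zero_add, hYv ψ hy]
          · have hB' : ψ ∉ B := by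
              rw [hXY]
              rintro (h | h)
              · exact hx h
              · exact hy h
            rw [if_neg hx, if_neg hy, hA0 ψ ω hB']
            simp
      rw [Finset.sum_congr rfl fun ψ _ => h8 ψ, Finset.sum_add_distrib, ← Finset.mul_sum, ← Int.cast_sum, hYs ω,
        ← Finset.sum_filter, Finset.sum_const, nsmul_eq_mul, ← hcX, Fintype.card_subtype]
    rw [hsum ω] at h7
    have hκ0 : κ = 0 := by
      have h8 : ((e * Fintype.card Y + 1 : ℕ) : ℂ) * κ = 0 := by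
        push_cast
        linear_combination (-(Fintype.card Y : ℂ)) * h7 - h5
      rcases mul_eq_zero.1 h8 with h9 | h9
      · exact absurd h9 (Nat.cast_ne_zero.2 (Nat.succ_ne_zero _))
      · exact h9
    intro χ hχ
    rw [hXY] at hχ
    rcases hχ with hχ | hχ
    · show c χ = 0
      rw [hXv ⟨χ, hχ⟩ ω, hκ0, zero_mul]
    · show c χ = 0
      rw [hYv χ hχ]
      rw [hκ0] at h5
      rcases mul_eq_zero.1 h5 with h9 | h9
      · rw [h9, mul_zero] at hεε
        exact absurd hεε.symm one_ne_zero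
      · rcases mul_eq_zero.1 h9 with h9 | h9
        · exact absurd h9 (Nat.cast_ne_zero.2 hcY.ne')
        · exact h9

end Cfsg.Agent.H759.LSix
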