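import Cfsg.Agent.H759.LSix.Family
import Cfsg.Agent.Blocks.ExistsModular
import Cfsg.Agent.Blocks.Knorr
import Cfsg.Agent.S0165
import Cfsg.Agent.S0189
import Cfsg.Agent.S0914
import Cfsg.Agent.H665.NoPQ

/-!
# L6: characters not vanishing on a `p`-section (helper759; for S4555, S4559)

`C_G(x) = ⟨x⟩ × H`, `x` of order `p`, `|H|_p = p`.

* `card_section_le` : at most `p * |Irr H|` irreducible characters of `G` do not vanish on the section of `x`;
* `dz_or_le` : if all elements of order `p` are conjugate to powers of `x` and there are no elements of order `p²`,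
  then `G` has a character of `p`-defect zero or `k(G) ≤ p * k(H)`.
-/

set_option autoImplicit false
set_option linter.unusedSectionVars false

namespace Cfsg.Agent.H759.LSix

open Cfsg ZMod
open scoped ComplexConjugate
open Cfsg.Agent.Blocks.Basic
open Cfsg.Agent.Blocks.CyclicGroup
open Cfsg.Agent.Characters.Core (isIrr_isClassFunction finite_irr classFunction_eq_zero classInner_irr_self
  classInner_self_eq_ofReal isIrr_isCharacter)

universe u

/-- characters of defect zero vanish on the `p`-singular elements -/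
theorem vanS_of_dvd {H : Type*} [Group H] [Finite H] {p : ℕ} [hp : Fact p.Prime] (hH : (Nat.card H).factorization p = 1)
    (χ : IrrCharacter H) (hd : p ∣ charDegree (χ : H → ℂ)) : VanS p (χ : H → ℂ) := by
  obtain ⟨χ, hχ⟩ := χ
  obtain ⟨n, ρ, hρ, rfl⟩ := hχ
  intro x hx
  have h1 : charDegree ρ.character = Module.finrank ℂ (Fin n → ℂ) := by
    apply Cfsg.Agent.Blocks.Basic.charDegree_of_eq
    exact Representation.char_one _
  refine Cfsg.Agent.S0165.result ρ p 1 hp.out ?_ ?_ ?_ x hx
  · rw [hp.out.pow_dvd_iff_le_factorization Nat.card_pos.ne', hH]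
  · rw [hp.out.pow_dvd_iff_le_factorization Nat.card_pos.ne', hH]
    omega
  · rw [pow_one, ← h1]
    exact hd

section main

variable {p : ℕ} [hp : Fact p.Prime] {G : Type u} [Group G] [Fintype G] {x : G} {H : Subgroup G}

open scoped Classical in
/-- the restriction to a section, cut off -/
noncomputable def cut (x : G) (H : Subgroup G) (χ : G → ℂ) (m : ZMod p) : H → ℂ :=
  fun y => if p ∣ orderOf y then 0 else χ (u x m * (y : G))

theorem AA_eq [Fintype H] {Ψ : H → ℂ} (hv : VanS p Ψ) (χ : G → ℂ) (m : ZMod p) :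
    AA x Ψ χ m = classInner (cut x H χ m) Ψ := by
  rw [Cfsg.Agent.Characters.Core.classInner_def]
  unfold AA
  congr 1
  refine Finset.sum_congr rfl fun y _ => ?_
  unfold cut
  split_ifs with hy
  · rw [hv y hy, map_zero, mul_zero, mul_zero]
  · rfl

theorem cut_vanS (χ : G → ℂ) (m : ZMod p) : VanS p (cut x H χ m) := fun _ hy => if_pos hy

theorem cut_class (h : Split p x H) (χ : IrrCharacter G) (m : ZMod p) :
    IsClassFunction H (cut x H (χ : G → ℂ) m) := by
  have := Fintype.ofFinite H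
  intro y k
  unfold cut
  have h1 : orderOf (k * y * k⁻¹) = orderOf y := (MulAut.conj k).orderOf_eq y
  rw [h1]
  split_ifs
  · rfl
  · have h2 : u x m * ((k * y * k⁻¹ : H) : G) = (k : G) * (u x m * (y : G)) * (k : G)⁻¹ := by
      have h3 := (h.u_commute k.2 m).eq
      push_cast
      calc u x m * ((k : G) * (y : G) * (k : G)⁻¹) = (u x m * (k : G)) * (y : G) * (k : G)⁻¹ := by group
        _ = ((k : G) * u x m) * (y : G) * (k : G)⁻¹ := by rw [h3]
        _ = _ := by group
    rw [h2, irr_conj χ.2]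

/-- the characters seen by a block -/
theorem exists_seen [Fintype H] (h : Split p x H) (hH : (Nat.card H).factorization p = 1) {M : Ideal AlgInt}
    (hM : IsPModular p M) {B : Set (IrrCharacter H)} (hB : IsPBlock M B) :
    ∃ S : Finset (IrrCharacter G), (S.card : ℝ) ≤ p * Nat.card B ∧ ∀ χ ∉ S, ∀ m : ZMod p, m ≠ 0 → ∀ χ' ∈ B,
      classInner (cut x H ((χ : IrrCharacter G) : G → ℂ) m) (χ' : H → ℂ) = 0 := by
  classical
  have hMp : M.IsPrime := hM.2.1.isPrime
  have hfin := finite_irr (G := G)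
  have := Fintype.ofFinite (IrrCharacter G)
  by_cases hex : ∃ χ₀ ∈ B, ¬ p ∣ charDegree ((χ₀ : IrrCharacter H) : H → ℂ)
  · obtain ⟨χ₀, hχ₀, hd⟩ := hex
    obtain ⟨V, _, δ, hV, hgen, hvan, horth, hsum, hcompl⟩ := block_family hM hB hH hχ₀ hd
    refine ⟨Finset.univ.filter fun χ : IrrCharacter G => ∃ v w, Seen x p (δ v - δ w) (χ : G → ℂ), ?_, ?_⟩
    · rw [← hsum]
      exact card_seen h δ hgen hvan horth hV
    · intro χ hχ m hm
      apply hcompl _ (cut_class h χ m) (cut_vanS _ _)
      intro v w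
      rw [← AA_eq (hvan v w)]
      by_contra hcon
      exact hχ (Finset.mem_filter.2 ⟨Finset.mem_univ _, v, w, m, hm, hcon⟩)
  · push Not at hex
    obtain ⟨χ₀, hχ₀⟩ := isPBlock_nonempty hB
    have hd := hex χ₀ hχ₀
    have hB1 : B = {χ₀} := by
      rw [isPBlock_eq_blockOf hB hχ₀]
      refine (Cfsg.Agent.S0914.result p M hM χ₀).1 ?_
      intro h1
      obtain ⟨k, hk⟩ := Cfsg.Agent.Blocks.Knorr.charDegree_dvd χ₀.2
      have hdpos := charDegree_pos χ₀.2
      rw [hk, Nat.mul_div_cancel_left _ hdpos] at h1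
      have h2 : p ^ 2 ∣ Nat.card H := by
        rw [hk, sq]
        exact mul_dvd_mul hd h1
      rw [hp.out.pow_dvd_iff_le_factorization Nat.card_pos.ne', hH] at h2
      omega
    have hv := vanS_of_dvd hH χ₀ hd
    have hn : nrm (χ₀ : H → ℂ) = 1 := by
      have h1 := classInner_irr_self χ₀.2
      rw [classInner_self_eq_ofReal] at h1
      exact_mod_cast h1
    refine ⟨Finset.univ.filter fun χ : IrrCharacter G => Seen x p (χ₀ : H → ℂ) (χ : G → ℂ), ?_, ?_⟩
    · have h1 := card_seen_one h (IsGen.of_irr χ₀) hv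
      rw [hn] at h1
      rw [hB1]
      simpa using h1
    · intro χ hχ m hm χ' hχ'
      rw [hB1, Set.mem_singleton_iff] at hχ'
      rw [hχ', ← AA_eq hv]
      by_contra hcon
      exact hχ (Finset.mem_filter.2 ⟨Finset.mem_univ _, m, hm, hcon⟩)

/-- **At most `p * |Irr H|` characters do not vanish on the section of `x`.** -/
theorem card_section_le (h : Split p x H) (hH : (Nat.card H).factorization p = 1) :
    ∃ S : Finset (IrrCharacter G), S.card ≤ p * Nat.card (IrrCharacter H) ∧
      ∀ χ ∉ S, ∀ m : ZMod p, m ≠ 0 → ∀ y : H, ¬ p ∣ orderOf y →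
        ((χ : IrrCharacter G) : G → ℂ) (u x m * (y : G)) = 0 := by
  classical
  have := Fintype.ofFinite H
  have hfin := finite_irr (G := H)
  have := Fintype.ofFinite (IrrCharacter H)
  obtain ⟨M, hM⟩ := Cfsg.Agent.Blocks.ExistsModular.exists_isPModular (p := p) hp.out
  have hMp : M.IsPrime := hM.2.1.isPrime
  let blk : IrrCharacter H → Set (IrrCharacter H) := fun χ => blockOf M (χ : H → ℂ)
  have hS : ∀ B : Set (IrrCharacter H), ∃ S : Finset (IrrCharacter G), IsPBlock M B →
      (S.card : ℝ) ≤ p * Nat.card B ∧ ∀ χ ∉ S, ∀ m : ZMod p, m ≠ 0 → ∀ χ' ∈ B,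
        classInner (cut x H ((χ : IrrCharacter G) : G → ℂ) m) (χ' : H → ℂ) = 0 := by
    intro B
    by_cases hB : IsPBlock M B
    · obtain ⟨S, h1, h2⟩ := exists_seen (G := G) h hH hM hB
      exact ⟨S, fun _ => ⟨h1, h2⟩⟩
    · exact ⟨∅, fun h => absurd h hB⟩
  choose S hS using hS
  let Bl : Finset (Set (IrrCharacter H)) := Finset.univ.image blk
  have hBl : ∀ B ∈ Bl, IsPBlock M B := by
    intro B hB
    obtain ⟨χ, -, rfl⟩ := Finset.mem_image.1 hB
    exact isPBlock_blockOf χ
  refine ⟨Bl.biUnion S, ?_, ?_⟩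
  · have h1 : ((Bl.biUnion S).card : ℝ) ≤ p * Nat.card (IrrCharacter H) := by
      calc ((Bl.biUnion S).card : ℝ) ≤ ∑ B ∈ Bl, ((S B).card : ℝ) := by exact_mod_cast Finset.card_biUnion_le
        _ ≤ ∑ B ∈ Bl, (p : ℝ) * Nat.card B := Finset.sum_le_sum fun B hB => (hS B (hBl B hB)).1
        _ = p * Nat.card (IrrCharacter H) := by
          rw [← Finset.mul_sum]
          congr 1
          have h2 := Finset.card_eq_sum_card_image blk Finset.univ
          rw [Finset.card_univ, ← Nat.card_eq_fintype_card] at h2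
          rw [h2]
          push_cast
          refine Finset.sum_congr rfl fun B hB => ?_
          have h3 : ∀ χ : IrrCharacter H, blk χ = B ↔ χ ∈ B := by
            intro χ
            constructor
            · rintro rfl
              exact mem_blockOf_self χ
            · intro hχ
              exact (isPBlock_eq_blockOf (hBl B hB) hχ).symm
          have h4 : Nat.card B = (Finset.univ.filter fun χ : IrrCharacter H => blk χ = B).card := by
            rw [Finset.filter_congr fun χ _ => h3 χ, ← Fintype.card_subtype, Nat.card_eq_fintype_card]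
          rw [h4]
    exact_mod_cast h1
  · intro χ hχ m hm y hy
    have h1 : cut x H (χ : G → ℂ) m = 0 := by
      apply classFunction_eq_zero (cut_class h χ m)
      intro χ' hχ'
      have h2 := mem_blockOf_self (M := M) (⟨χ', hχ'⟩ : IrrCharacter H)
      have h3 : blk ⟨χ', hχ'⟩ ∈ Bl := Finset.mem_image_of_mem _ (Finset.mem_univ _)
      have h4 : χ ∉ S (blk ⟨χ', hχ'⟩) := fun h5 => hχ (Finset.mem_biUnion.2 ⟨_, h3, h5⟩)
      exact (hS _ (hBl _ h3)).2 χ h4 m hm ⟨χ', hχ'⟩ h2
    have h2 := congrFun h1 y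
    unfold cut at h2
    rwa [if_neg hy] at h2

/-- the elements of order divisible by `p` -/
theorem exists_conj_section (h : Split p x H) (hconj : ∀ t : G, orderOf t = p → ∃ (c : G) (m : ZMod p), c * t * c⁻¹ = u x m)
    (hsq : ∀ t : G, orderOf t ≠ p ^ 2) {g : G} (hg : p ∣ orderOf g) :
    ∃ (c : G) (m : ZMod p) (y : H), m ≠ 0 ∧ ¬ p ∣ orderOf y ∧ c * g * c⁻¹ = u x m * (y : G) := by
  have hog : orderOf g ≠ 0 := (orderOf_pos g).ne'
  obtain ⟨r, hr⟩ := hg
  have := Fintype.ofFinite H
  have hr0 : r ≠ 0 := by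
    rintro rfl
    rw [mul_zero] at hr
    exact hog hr
  have hto : orderOf (g ^ r) = p := by
    have h1 : r ∣ orderOf g := ⟨p, by rw [hr, mul_comm]⟩
    rw [orderOf_pow_of_dvd hr0 h1, hr, Nat.mul_div_cancel _ (Nat.pos_of_ne_zero hr0)]
  have hpr : ¬ p ∣ r := by
    rintro ⟨s, rfl⟩
    have hs0 : s ≠ 0 := by
      rintro rfl
      exact hr0 (mul_zero p)
    apply hsq (g ^ s)
    have h1 : s ∣ orderOf g := ⟨p ^ 2, by rw [hr]; ring⟩
    rw [orderOf_pow_of_dvd hs0 h1, hr, show p * (p * s) = p ^ 2 * s by ring,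
      Nat.mul_div_cancel _ (Nat.pos_of_ne_zero hs0)]
  obtain ⟨c, m', hc⟩ := hconj _ hto
  have hm' : m' ≠ 0 := by
    rintro rfl
    rw [u_zero, conj_eq_one_iff] at hc
    rw [hc, orderOf_one] at hto
    exact hp.out.one_lt.ne hto
  have hcr : (c * g * c⁻¹) ^ r = u x m' := by rw [conj_pow, hc]
  have hcomm : (c * g * c⁻¹) * x = x * (c * g * c⁻¹) := by
    have h1 : Commute (c * g * c⁻¹) (u x m') := by
      rw [← hcr]
      exact (Commute.refl _).pow_right _
    have h3 : x = (u x m') ^ (m'⁻¹ : ZMod p).val := by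
      rw [← u_mul h.ord, mul_inv_cancel₀ hm', u_one h.ord]
    rw [h3]
    exact (h1.pow_right _).eq
  obtain ⟨j, k, hk, hjk⟩ := h.gen _ hcomm
  have hkr : u x (j * (r : ZMod p)) * k ^ r = u x m' * 1 := by
    rw [mul_one, ← hcr, hjk, (h.u_commute hk j).symm.mul_pow]
    congr 1
    have h3 : j * (r : ZMod p) = ((j.val * r : ℕ) : ZMod p) := by
      push_cast
      rw [ZMod.natCast_zmod_val]
    rw [h3, u_natCast h.ord, u_eq]
    exact pow_mul _ _ _
  obtain ⟨h1, h2⟩ := h.uniq (H.pow_mem hk r) H.one_mem hkr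
  refine ⟨c, j, ⟨k, hk⟩, ?_, ?_, hjk⟩
  · rintro rfl
    rw [zero_mul] at h1
    exact hm' h1.symm
  · intro h3
    rw [Subgroup.orderOf_mk] at h3
    exact hpr (h3.trans (orderOf_dvd_of_pow_eq_one h2))

/-- **L6.** -/
theorem dz_or_le (h : Split p x H) (hH : (Nat.card H).factorization p = 1)
    (hconj : ∀ t : G, orderOf t = p → ∃ (c : G) (m : ZMod p), c * t * c⁻¹ = u x m)
    (hsq : ∀ t : G, orderOf t ≠ p ^ 2) :
    Cfsg.Agent.H665.NoPQ.HasDZ p G ∨ Nat.card (ConjClasses G) ≤ p * Nat.card (ConjClasses H) := by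
  classical
  have hfin := finite_irr (G := G)
  have := Fintype.ofFinite (IrrCharacter G)
  obtain ⟨S, hS, hvan⟩ := card_section_le (G := G) h hH
  rw [← Cfsg.Agent.Characters.Core.card_irr (G := G), ← Cfsg.Agent.Characters.Core.card_irr (G := H)]
  by_cases hall : ∀ χ : IrrCharacter G, χ ∈ S
  · right
    refine le_trans ?_ hS
    rw [Nat.card_eq_fintype_card, ← Finset.card_univ]
    exact Finset.card_le_card fun χ _ => hall χ
  · left
    push Not at hall
    obtain ⟨χ, hχ⟩ := hall
    have hz : ∀ g : G, p ∣ orderOf g → (χ : G → ℂ) g = 0 := by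
      intro g hg
      obtain ⟨c, m, y, hm, hy, hc⟩ := exists_conj_section h hconj hsq hg
      rw [← irr_conj χ.2 g c, hc]
      exact hvan χ hχ m hm y hy
    obtain ⟨P⟩ : Nonempty (Sylow p G) := inferInstance
    obtain ⟨k, hk⟩ := Cfsg.Agent.S0189.card_dvd_degree_of_vanishing (P : Subgroup G) (χ : G → ℂ)
      (isIrr_isCharacter χ.2) (fun g hg hg1 => hz g (by
        obtain ⟨n, hn⟩ := (IsPGroup.iff_orderOf.1 P.isPGroup') ⟨g, hg⟩
        rw [Subgroup.orderOf_mk] at hn
        rw [hn]
        refine dvd_pow_self p ?_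
        rintro rfl
        rw [pow_zero, orderOf_eq_one_iff] at hn
        exact hg1 hn))
    refine ⟨χ, le_antisymm ?_ ?_⟩
    · exact (Nat.factorization_le_iff_dvd (charDegree_pos χ.2).ne' Nat.card_pos.ne').2
        (Cfsg.Agent.Blocks.Knorr.charDegree_dvd χ.2) p
    · rw [← hp.out.pow_dvd_iff_le_factorization (charDegree_pos χ.2).ne', ← P.card_eq_multiplicity]
      have h1 : charDegree (χ : G → ℂ) = Nat.card P * k := by
        apply charDegree_of_eq
        rw [hk]
        push_cast
        rfl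
      exact ⟨k, h1⟩

end main

end Cfsg.Agent.H759.LSix
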