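import Cfsg.Agent.H593.D1Gram
import Cfsg.Agent.H593.D1Abs
import Cfsg.Agent.H937.Conj.CC

/-!
# Counting the characters which do not vanish on a `p`-section (helper759; L6 for S4555, S4559)

`C_G(x) = ⟨x⟩ × H`, `x` of order `p`. For a generalised character `Ψ` of `H` vanishing on the `p`-singular elements put
`AA Ψ χ m = |H|⁻¹ ∑_y χ(x^m y) conj (Ψ y)`.

* `four_le` : integral Fourier coefficients, `f ≠ 0` outside `0`: `p - 1 ≤ ∑_{m ≠ 0} |f m|²`;
* `sum_AA` : `∑_χ |AA Ψ χ m|² = p ‖Ψ‖²`, `m ≠ 0`;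
* `card_seen_one` : `Ψ` is seen by at most `p ‖Ψ‖²` characters;
* `card_seen` : a family `δ_v` with all differences vanishing on the `p`-singular elements is seen by at most
  `p ∑_v ‖δ_v‖²` characters.
-/

set_option autoImplicit false
set_option linter.unusedSectionVars false

namespace Cfsg.Agent.H759.LSix

open Cfsg ZMod
open scoped ComplexConjugate
open Cfsg.Agent.Blocks.CyclicGroup Cfsg.Agent.Blocks.CyclicUpper Cfsg.Agent.Blocks.CyclicGram
open Cfsg.Agent.H593.D1Gram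
open Cfsg.Agent.Characters.Core (isIrr_isCharacter isCharacter_apply_inv isIrr_comp
  isCharacter_comp classInner_irr_self classInner_irr_ne isIrr_iff_classInner_self
  isIrr_isClassFunction finite_irr classFunction_eq_sum isCharacter_mul classInner_isNat)

universe u

variable {p : ℕ} [hp : Fact p.Prime]

/-! ### Fourier analysis on `ZMod p` -/

/-- integral Fourier coefficients -/
def IntF (f : ZMod p → ℂ) : Prop :=
  ∀ i : ZMod p, ∃ k : ℤ, (p : ℂ)⁻¹ * ∑ m : ZMod p, f m * (stdAddChar (-(i * m)) : ℂ) = k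

theorem IntF.zero : IntF (fun _ : ZMod p => (0 : ℂ)) := fun i => ⟨0, by simp⟩

theorem IntF.add {f g : ZMod p → ℂ} (hf : IntF f) (hg : IntF g) : IntF (fun m => f m + g m) := by
  intro i
  obtain ⟨a, ha⟩ := hf i
  obtain ⟨b, hb⟩ := hg i
  refine ⟨a + b, ?_⟩
  push_cast
  rw [← ha, ← hb, ← mul_add, ← Finset.sum_add_distrib]
  congr 1
  exact Finset.sum_congr rfl fun m _ => by ring

theorem IntF.int_mul {f : ZMod p → ℂ} (hf : IntF f) (c : ℤ) : IntF (fun m => (c : ℂ) * f m) := by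
  intro i
  obtain ⟨a, ha⟩ := hf i
  refine ⟨c * a, ?_⟩
  push_cast
  rw [← ha, ← mul_assoc, mul_comm (c : ℂ) _, mul_assoc, Finset.mul_sum (a := (c : ℂ))]
  congr 1
  exact Finset.sum_congr rfl fun m _ => by ring

theorem IntF.sum {ι : Type*} (s : Finset ι) {f : ι → ZMod p → ℂ} (hf : ∀ j ∈ s, IntF (f j)) :
    IntF (fun m => ∑ j ∈ s, f j m) := by
  classical
  induction s using Finset.induction_on with
  | empty => simpa using IntF.zero
  | insert a s ha ih =>
    have h1 := IntF.add (hf a (Finset.mem_insert_self a s)) (ih fun j hj => hf j (Finset.mem_insert_of_mem hj))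
    simpa [Finset.sum_insert ha] using h1

/-- **Parseval and the variance.** -/
theorem four_le {f : ZMod p → ℂ} (hf : IntF f) (hne : ∃ m : ZMod p, m ≠ 0 ∧ f m ≠ 0) :
    ((p : ℝ) - 1) ≤ ∑ m ∈ Finset.univ.erase (0 : ZMod p), Complex.normSq (f m) := by
  classical
  choose k hk using hf
  have hinv : ∀ m, f m = ∑ i : ZMod p, (k i : ℂ) * (stdAddChar (i * m) : ℂ) := by
    intro m
    rw [← inversion f m]
    exact Finset.sum_congr rfl fun i _ => by rw [hk]
  -- not constant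
  obtain ⟨a, b, hab⟩ : ∃ a b, k a ≠ k b := by
    by_contra hcon
    push Not at hcon
    obtain ⟨m, hm, hfm⟩ := hne
    apply hfm
    rw [hinv m, Finset.sum_congr rfl fun i _ => by rw [hcon i 0], ← Finset.mul_sum, sum_std, if_neg hm, mul_zero]
  have hv := Cfsg.Agent.H937.CC.variance k hab
  rw [ZMod.card] at hv
  -- Parseval
  have hpars : ∑ m : ZMod p, f m * conj (f m) = (p : ℂ) * ∑ i, ((k i : ℂ)) ^ 2 := by
    calc ∑ m : ZMod p, f m * conj (f m)
        = ∑ m : ZMod p, ∑ i, ∑ j, (k i : ℂ) * (k j : ℂ) * (stdAddChar (m * (i - j)) : ℂ) := by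
          refine Finset.sum_congr rfl fun m _ => ?_
          rw [hinv m, map_sum, Finset.sum_mul]
          refine Finset.sum_congr rfl fun i _ => ?_
          rw [Finset.mul_sum]
          refine Finset.sum_congr rfl fun j _ => ?_
          rw [map_mul (starRingEnd ℂ), conj_std, show (conj (k j : ℂ)) = (k j : ℂ) from map_intCast (starRingEnd ℂ) _,
            show m * (i - j) = i * m + -(j * m) by ring, AddChar.map_add_eq_mul]
          ring
      _ = ∑ i, ∑ j, (k i : ℂ) * (k j : ℂ) * (if i - j = 0 then (p : ℂ) else 0) := by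
          rw [Finset.sum_comm]
          refine Finset.sum_congr rfl fun i _ => ?_
          rw [Finset.sum_comm]
          refine Finset.sum_congr rfl fun j _ => ?_
          rw [← Finset.mul_sum, sum_std]
      _ = (p : ℂ) * ∑ i, ((k i : ℂ)) ^ 2 := by
          rw [Finset.mul_sum]
          refine Finset.sum_congr rfl fun i _ => ?_
          rw [Finset.sum_eq_single i]
          · rw [sub_self, if_pos rfl]; ring
          · intro j _ hj
            rw [if_neg (fun h => hj (sub_eq_zero.1 h).symm), mul_zero]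
          · intro h; exact absurd (Finset.mem_univ i) h
  have hpars' : ∑ m : ZMod p, Complex.normSq (f m) = (p : ℝ) * ∑ i, ((k i : ℝ)) ^ 2 := by
    have h1 : ((∑ m : ZMod p, Complex.normSq (f m) : ℝ) : ℂ) = (((p : ℝ) * ∑ i, ((k i : ℝ)) ^ 2 : ℝ) : ℂ) := by
      push_cast
      rw [← hpars]
      exact Finset.sum_congr rfl fun m _ => by rw [Complex.mul_conj]
    exact_mod_cast h1
  have h0 : Complex.normSq (f 0) = (∑ i, (k i : ℝ)) ^ 2 := by
    have h1 : f 0 = ((∑ i, (k i : ℝ) : ℝ) : ℂ) := by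
      rw [hinv 0]
      push_cast
      exact Finset.sum_congr rfl fun i _ => by rw [mul_zero, AddChar.map_zero_eq_one, mul_one]
    rw [h1, Complex.normSq_ofReal, sq]
  have hsplit := Finset.add_sum_erase Finset.univ (fun m => Complex.normSq (f m)) (Finset.mem_univ (0 : ZMod p))
  rw [hpars', h0] at hsplit
  have hv' : (∑ i, (k i : ℝ)) ^ 2 + ((p : ℝ) - 1) ≤ (p : ℝ) * ∑ i, (k i : ℝ) ^ 2 := by exact_mod_cast hv
  linarith

/-! ### The section of `x` -/

variable {G : Type u} [Group G] [Fintype G]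

/-- `C_G(x) = ⟨x⟩ × H`, `x` of order `p` -/
structure Split (p : ℕ) [Fact p.Prime] (x : G) (H : Subgroup G) : Prop where
  ord : orderOf x = p
  comm : ∀ h ∈ H, h * x = x * h
  disj : ∀ m : ZMod p, u x m ∈ H → m = 0
  gen : ∀ c : G, c * x = x * c → ∃ m : ZMod p, ∃ h ∈ H, c = u x m * h

variable {x : G} {H : Subgroup G} [Fintype H]

/-- the coefficient -/
noncomputable def AA (x : G) (Ψ : H → ℂ) (χ : G → ℂ) (m : ZMod p) : ℂ :=
  (Nat.card H : ℂ)⁻¹ * ∑ y : H, χ (u x m * (y : G)) * conj (Ψ y)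

theorem AA_add (Ψ Ψ' : H → ℂ) (χ : G → ℂ) (m : ZMod p) : AA x (Ψ + Ψ') χ m = AA x Ψ χ m + AA x Ψ' χ m := by
  unfold AA
  rw [← mul_add, ← Finset.sum_add_distrib]
  congr 1
  refine Finset.sum_congr rfl fun y _ => ?_
  rw [Pi.add_apply, map_add, mul_add]

theorem AA_sub (Ψ Ψ' : H → ℂ) (χ : G → ℂ) (m : ZMod p) : AA x (Ψ - Ψ') χ m = AA x Ψ χ m - AA x Ψ' χ m := by
  unfold AA
  rw [← mul_sub, ← Finset.sum_sub_distrib]
  congr 1
  refine Finset.sum_congr rfl fun y _ => ?_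
  rw [Pi.sub_apply, map_sub, mul_sub]

theorem AA_int (c : ℤ) (Ψ : H → ℂ) (χ : G → ℂ) (m : ZMod p) :
    AA x (fun y => (c : ℂ) * Ψ y) χ m = (c : ℂ) * AA x Ψ χ m := by
  unfold AA
  rw [← mul_assoc, mul_comm (c : ℂ), mul_assoc, Finset.mul_sum (a := (c : ℂ))]
  congr 1
  refine Finset.sum_congr rfl fun y _ => ?_
  rw [map_mul, map_intCast (starRingEnd ℂ)]
  ring

theorem AA_sum {ι : Type*} (s : Finset ι) (Ψ : ι → H → ℂ) (χ : G → ℂ) (m : ZMod p) :
    AA x (fun y => ∑ j ∈ s, Ψ j y) χ m = ∑ j ∈ s, AA x (Ψ j) χ m := by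
  unfold AA
  rw [← Finset.mul_sum, Finset.sum_comm]
  congr 1
  refine Finset.sum_congr rfl fun y _ => ?_
  rw [map_sum, Finset.mul_sum]

/-- the homomorphism `(m, y) ↦ x^m y` -/
def phi (h : Split p x H) : Multiplicative (ZMod p) × H →* G where
  toFun a := u x (Multiplicative.toAdd a.1) * (a.2 : G)
  map_one' := by
    show u x (0 : ZMod p) * ((1 : H) : G) = 1
    rw [u_zero, OneMemClass.coe_one, one_mul]
  map_mul' a b := by
    show u x (Multiplicative.toAdd a.1 + Multiplicative.toAdd b.1) * ((a.2 * b.2 : H) : G) = _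
    rw [u_add h.ord, Subgroup.coe_mul]
    have h1 : Commute (a.2 : G) (u x (Multiplicative.toAdd b.1)) := by
      have h2 : Commute (a.2 : G) x := h.comm a.2 a.2.2
      exact h2.pow_right _
    calc u x (Multiplicative.toAdd a.1) * u x (Multiplicative.toAdd b.1) * ((a.2 : G) * (b.2 : G))
        = u x (Multiplicative.toAdd a.1) * (u x (Multiplicative.toAdd b.1) * (a.2 : G)) * (b.2 : G) := by group
      _ = u x (Multiplicative.toAdd a.1) * ((a.2 : G) * u x (Multiplicative.toAdd b.1)) * (b.2 : G) := by rw [h1.eq]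
      _ = _ := by group

/-- Integrality for irreducible characters. -/
theorem intF_irr (h : Split p x H) (θ : IrrCharacter H) (χ : IrrCharacter G) :
    IntF (fun m : ZMod p => AA x (θ : H → ℂ) (χ : G → ℂ) m) := by
  intro i
  have h1 : IsCharacter (Multiplicative (ZMod p) × H) ((χ : G → ℂ) ∘ phi h) :=
    isCharacter_comp (phi h) (isIrr_isCharacter χ.2)
  have h2 : IsCharacter (Multiplicative (ZMod p)) (fun g =>
      (((AddChar.mulShift (stdAddChar (N := p)) i).toMonoidHom.toHomUnits g : ℂˣ) : ℂ)) :=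
    Cfsg.Agent.Characters.Linear.isCharacter_hom _
  have h3 := isCharacter_comp (MonoidHom.fst (Multiplicative (ZMod p)) H) h2
  have h4 := isCharacter_comp (MonoidHom.snd (Multiplicative (ZMod p)) H) (isIrr_isCharacter θ.2)
  obtain ⟨n, hn⟩ := classInner_isNat h1 (isCharacter_mul h3 h4)
  refine ⟨n, ?_⟩
  rw [Int.cast_natCast, ← hn, Cfsg.Agent.Characters.Core.classInner_def]
  have hc : (Nat.card (Multiplicative (ZMod p) × H) : ℂ) = p * Nat.card H := by
    rw [Nat.card_prod, Nat.card_congr (Multiplicative.toAdd (α := ZMod p)), Nat.card_zmod]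
    push_cast
    rfl
  rw [hc, Fintype.sum_prod_type, mul_inv, mul_assoc]
  congr 1
  rw [← Equiv.sum_comp (Multiplicative.toAdd (α := ZMod p)), Finset.mul_sum]
  refine Finset.sum_congr rfl fun a _ => ?_
  unfold AA
  rw [mul_assoc, Finset.sum_mul]
  congr 1
  refine Finset.sum_congr rfl fun l _ => ?_
  show _ = (χ : G → ℂ) (u x (Multiplicative.toAdd a) * (l : G)) *
    conj ((stdAddChar (i * Multiplicative.toAdd a) : ℂ) * (θ : H → ℂ) l)
  rw [map_mul, Cfsg.Agent.Blocks.CyclicGram.conj_std]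
  ring

/-- integral combinations of irreducible characters -/
def IsGen {H : Type*} [Group H] (Ψ : H → ℂ) : Prop :=
  ∃ (s : Finset (IrrCharacter H)) (n : IrrCharacter H → ℤ), Ψ = fun y => ∑ θ ∈ s, (n θ : ℂ) * (θ : H → ℂ) y

theorem IsGen.of_irr {H : Type*} [Group H] (θ : IrrCharacter H) : IsGen (θ : H → ℂ) :=
  ⟨{θ}, fun _ => 1, by funext y; simp⟩

theorem IsGen.int_mul {H : Type*} [Group H] {Ψ : H → ℂ} (h : IsGen Ψ) (c : ℤ) : IsGen (fun y => (c : ℂ) * Ψ y) := by
  obtain ⟨s, n, rfl⟩ := h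
  refine ⟨s, fun θ => c * n θ, ?_⟩
  funext y
  rw [Finset.mul_sum]
  refine Finset.sum_congr rfl fun θ _ => ?_
  push_cast
  ring

theorem IsGen.add {H : Type*} [Group H] {Ψ Ψ' : H → ℂ} (h : IsGen Ψ) (h' : IsGen Ψ') : IsGen (Ψ + Ψ') := by
  classical
  obtain ⟨s, n, rfl⟩ := h
  obtain ⟨s', n', rfl⟩ := h'
  refine ⟨s ∪ s', fun θ => (if θ ∈ s then n θ else 0) + (if θ ∈ s' then n' θ else 0), ?_⟩
  funext y
  rw [Pi.add_apply]
  have e1 : ∑ θ ∈ s, (n θ : ℂ) * (θ : H → ℂ) y =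
      ∑ θ ∈ s ∪ s', ((if θ ∈ s then n θ else 0 : ℤ) : ℂ) * (θ : H → ℂ) y := by
    rw [← Finset.sum_subset Finset.subset_union_left
      (f := fun θ : IrrCharacter H => ((if θ ∈ s then n θ else 0 : ℤ) : ℂ) * (θ : H → ℂ) y)]
    · exact Finset.sum_congr rfl fun θ hθ => by rw [if_pos hθ]
    · intro θ _ hθ
      rw [if_neg hθ, Int.cast_zero, zero_mul]
  have e2 : ∑ θ ∈ s', (n' θ : ℂ) * (θ : H → ℂ) y =
      ∑ θ ∈ s ∪ s', ((if θ ∈ s' then n' θ else 0 : ℤ) : ℂ) * (θ : H → ℂ) y := by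
    rw [← Finset.sum_subset Finset.subset_union_right
      (f := fun θ : IrrCharacter H => ((if θ ∈ s' then n' θ else 0 : ℤ) : ℂ) * (θ : H → ℂ) y)]
    · exact Finset.sum_congr rfl fun θ hθ => by rw [if_pos hθ]
    · intro θ _ hθ
      rw [if_neg hθ, Int.cast_zero, zero_mul]
  rw [e1, e2, ← Finset.sum_add_distrib]
  refine Finset.sum_congr rfl fun θ _ => ?_
  push_cast
  ring

theorem IsGen.sub {H : Type*} [Group H] {Ψ Ψ' : H → ℂ} (h : IsGen Ψ) (h' : IsGen Ψ') : IsGen (Ψ - Ψ') := by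
  have h1 := h.add (h'.int_mul (-1))
  have h2 : (Ψ + fun y => ((-1 : ℤ) : ℂ) * Ψ' y) = Ψ - Ψ' := by
    funext y
    simp [sub_eq_add_neg]
  rwa [h2] at h1

theorem IsGen.class {H : Type*} [Group H] {Ψ : H → ℂ} (h : IsGen Ψ) (g y : H) : Ψ (g * y * g⁻¹) = Ψ y := by
  obtain ⟨s, n, rfl⟩ := h
  exact Finset.sum_congr rfl fun θ _ => by rw [isIrr_isClassFunction θ.2 y g]

theorem intF (h : Split p x H) {Ψ : H → ℂ} (hΨ : IsGen Ψ) (χ : IrrCharacter G) :
    IntF (fun m : ZMod p => AA x Ψ (χ : G → ℂ) m) := by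
  obtain ⟨s, n, rfl⟩ := hΨ
  have e : (fun m : ZMod p => AA x (fun y => ∑ θ ∈ s, (n θ : ℂ) * (θ : H → ℂ) y) (χ : G → ℂ) m) =
      fun m => ∑ θ ∈ s, (n θ : ℂ) * AA x (θ : H → ℂ) (χ : G → ℂ) m := by
    funext m
    rw [AA_sum s (fun (θ : IrrCharacter H) y => (n θ : ℂ) * (θ : H → ℂ) y)]
    exact Finset.sum_congr rfl fun θ _ => AA_int _ _ _ _
  rw [e]
  exact IntF.sum s fun θ _ => (intF_irr h θ χ).int_mul _

/-- vanishing on the `p`-singular elements -/
def VanS (p : ℕ) {H : Type*} [Group H] (Ψ : H → ℂ) : Prop := ∀ y : H, p ∣ orderOf y → Ψ y = 0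

/-- `‖Ψ‖²` -/
noncomputable def nrm {H : Type*} [Group H] [Fintype H] (Ψ : H → ℂ) : ℝ :=
  (Nat.card H : ℝ)⁻¹ * ∑ y : H, Complex.normSq (Ψ y)


/-! ### the Gram relations -/

theorem Split.u_commute (h : Split p x H) {y : G} (hy : y ∈ H) (m : ZMod p) : Commute y (u x m) := by
  have h2 : Commute y x := h.comm y hy
  exact h2.pow_right _

theorem Split.uniq (h : Split p x H) {m n : ZMod p} {a b : G} (ha : a ∈ H) (hb : b ∈ H)
    (e : u x m * a = u x n * b) : m = n ∧ a = b := by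
  have h1 : u x (m - n) * a = b := by
    have h2 : u x (m - n) = u x (-n) * u x m := by rw [← u_add h.ord]; congr 1; ring
    have h3 : u x (-n) * u x n = 1 := by rw [← u_add h.ord, neg_add_cancel, u_zero]
    rw [h2, mul_assoc, e, ← mul_assoc, h3, one_mul]
  have h4 : u x (m - n) ∈ H := by
    have h5 : u x (m - n) = b * a⁻¹ := by rw [← h1]; group
    rw [h5]
    exact mul_mem hb (inv_mem ha)
  have h6 : m = n := sub_eq_zero.1 (h.disj _ h4)
  subst h6
  exact ⟨rfl, mul_left_cancel e⟩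

theorem Split.comm_of_conj (h : Split p x H) {m : ZMod p} (hm : m ≠ 0) {y y' : G} (hy : y ∈ H) (hy' : y' ∈ H)
    (hr : ¬ p ∣ orderOf y) (hr' : ¬ p ∣ orderOf y') {g : G} (e : g * (u x m * y') * g⁻¹ = u x m * y) :
    g * x = x * g := by
  have e1 : g * (u x m * y') ^ (orderOf y * orderOf y') * g⁻¹ = (u x m * y) ^ (orderOf y * orderOf y') := by
    rw [← e, conj_pow]
  rw [(h.u_commute hy' m).symm.mul_pow, (h.u_commute hy m).symm.mul_pow,
    show y' ^ (orderOf y * orderOf y') = 1 by rw [mul_comm, pow_mul, pow_orderOf_eq_one, one_pow],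
    show y ^ (orderOf y * orderOf y') = 1 by rw [pow_mul, pow_orderOf_eq_one, one_pow], mul_one,
    mul_inv_eq_iff_eq_mul] at e1
  set n := orderOf y * orderOf y' with hn
  have hpn : ¬ p ∣ n := hp.out.prime.not_dvd_mul hr hr'
  have h2 : (u x m) ^ n = u x (m * (n : ZMod p)) := by
    have h3 : m * (n : ZMod p) = ((m.val * n : ℕ) : ZMod p) := by
      push_cast
      rw [ZMod.natCast_zmod_val]
    rw [h3, u_natCast h.ord, u_eq]
    exact (pow_mul _ _ _).symm
  have hmn : m * (n : ZMod p) ≠ 0 := mul_ne_zero hm (fun h0 => hpn ((ZMod.natCast_eq_zero_iff _ _).1 h0))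
  have h3 : x = (u x (m * (n : ZMod p))) ^ ((m * (n : ZMod p))⁻¹ : ZMod p).val := by
    rw [← u_mul h.ord, mul_inv_cancel₀ hmn, u_one h.ord]
  have h4 : Commute g (u x (m * (n : ZMod p))) := by
    rw [← h2]
    exact e1
  rw [h3]
  exact (h4.pow_right _).eq

theorem Split.conj_eq (h : Split p x H) {m j : ZMod p} {k y' : G} (hk : k ∈ H) :
    u x j * k * (u x m * y') * (u x j * k)⁻¹ = u x m * (k * y' * k⁻¹) ∨ y' ∉ H := by
  by_cases hy' : y' ∈ H
  swap
  · exact Or.inr hy'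
  left
  have h1 := (h.u_commute hk m).eq
  have h2 : u x j * u x m = u x m * u x j := by rw [← u_add h.ord, ← u_add h.ord, add_comm]
  have h3 := (h.u_commute (mul_mem (mul_mem hk hy') (inv_mem hk)) j).eq
  calc u x j * k * (u x m * y') * (u x j * k)⁻¹ = u x j * (k * u x m) * y' * k⁻¹ * (u x j)⁻¹ := by group
    _ = u x j * (u x m * k) * y' * k⁻¹ * (u x j)⁻¹ := by rw [h1]
    _ = (u x j * u x m) * (k * y' * k⁻¹) * (u x j)⁻¹ := by group
    _ = (u x m * u x j) * (k * y' * k⁻¹) * (u x j)⁻¹ := by rw [h2]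
    _ = u x m * (u x j * (k * y' * k⁻¹)) * (u x j)⁻¹ := by group
    _ = u x m * ((k * y' * k⁻¹) * u x j) * (u x j)⁻¹ := by rw [h3]
    _ = _ := by group

open scoped Classical in
theorem Split.card_fix (h : Split p x H) {m : ZMod p} (hm : m ≠ 0) (y y' : H)
    (hr : ¬ p ∣ orderOf y) (hr' : ¬ p ∣ orderOf y') :
    (Finset.univ.filter fun g : G => g * (u x m * (y' : G)) * g⁻¹ = u x m * (y : G)).card =
      p * (Finset.univ.filter fun k : H => k * y' * k⁻¹ = y).card := by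
  have hc : (Finset.univ : Finset (ZMod p)).card = p := by rw [Finset.card_univ, ZMod.card]
  rw [← Subgroup.orderOf_coe] at hr hr'
  conv_rhs => rw [← hc]
  rw [← Finset.card_product]
  symm
  refine Finset.card_bij (fun a _ => u x a.1 * (a.2 : G)) ?_ ?_ ?_
  · rintro ⟨j, k⟩ hjk
    rw [Finset.mem_product] at hjk
    have hk := (Finset.mem_filter.1 hjk.2).2
    rw [Finset.mem_filter]
    refine ⟨Finset.mem_univ _, ?_⟩
    rcases h.conj_eq (m := m) (j := j) (y' := (y' : G)) k.2 with h1 | h1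
    · rw [h1]
      congr 1
      exact congrArg Subtype.val hk
    · exact absurd y'.2 h1
  · rintro ⟨j, k⟩ _ ⟨j', k'⟩ _ e
    obtain ⟨h1, h2⟩ := h.uniq k.2 k'.2 e
    exact Prod.ext h1 (Subtype.ext h2)
  · intro g hg
    have hg := (Finset.mem_filter.1 hg).2
    obtain ⟨j, k, hk, rfl⟩ := h.gen g (h.comm_of_conj hm y.2 y'.2 hr hr' hg)
    refine ⟨(j, ⟨k, hk⟩), ?_, rfl⟩
    rw [Finset.mem_product, Finset.mem_filter]
    refine ⟨Finset.mem_univ _, Finset.mem_univ _, ?_⟩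
    rcases h.conj_eq (m := m) (j := j) (y' := (y' : G)) hk with h1 | h1
    · rw [h1] at hg
      exact Subtype.ext (mul_left_cancel hg)
    · exact absurd y'.2 h1

theorem sum_AA_complex [Fintype (IrrCharacter G)] (h : Split p x H) {m : ZMod p} (hm : m ≠ 0) {Ψ : H → ℂ}
    (hΨ : ∀ g y : H, Ψ (g * y * g⁻¹) = Ψ y) (hv : VanS p Ψ) :
    ∑ χ : IrrCharacter G, AA x Ψ (χ : G → ℂ) m * conj (AA x Ψ (χ : G → ℂ) m) =
      (p : ℂ) * ((Nat.card H : ℂ)⁻¹ * ∑ y : H, Ψ y * conj (Ψ y)) := by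
  classical
  have hH : (Nat.card H : ℂ) ≠ 0 := by exact_mod_cast Nat.card_pos.ne'
  have e1 : ∀ χ : IrrCharacter G, AA x Ψ (χ : G → ℂ) m * conj (AA x Ψ (χ : G → ℂ) m) =
      (Nat.card H : ℂ)⁻¹ * (Nat.card H : ℂ)⁻¹ * ∑ y : H, ∑ y' : H, conj (Ψ y) * Ψ y' *
        ((χ : G → ℂ) (u x m * (y : G)) * conj ((χ : G → ℂ) (u x m * (y' : G)))) := by
    intro χ
    unfold AA
    rw [map_mul, map_inv₀, map_natCast, map_sum, mul_mul_mul_comm, Finset.sum_mul]
    congr 1
    refine Finset.sum_congr rfl fun y _ => ?_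
    rw [Finset.mul_sum]
    refine Finset.sum_congr rfl fun y' _ => ?_
    rw [map_mul, Complex.conj_conj]
    ring
  have e2 : ∀ y y' : H, conj (Ψ y) * Ψ y' *
      ((Finset.univ.filter fun g : G => g * (u x m * (y' : G)) * g⁻¹ = u x m * (y : G)).card : ℂ) =
      (p : ℂ) * ∑ k : H, if k * y' * k⁻¹ = y then conj (Ψ y) * Ψ y' else 0 := by
    intro y y'
    by_cases hr : p ∣ orderOf y
    · rw [hv y hr]
      simp
    by_cases hr' : p ∣ orderOf y'
    · rw [hv y' hr']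
      simp
    rw [h.card_fix hm y y' hr hr', ← Finset.sum_filter, Finset.sum_const, nsmul_eq_mul]
    push_cast
    ring
  rw [Finset.sum_congr rfl fun χ _ => e1 χ, ← Finset.mul_sum, Finset.sum_comm]
  have e3 : ∑ y : H, ∑ χ : IrrCharacter G, ∑ y' : H, conj (Ψ y) * Ψ y' *
        ((χ : G → ℂ) (u x m * (y : G)) * conj ((χ : G → ℂ) (u x m * (y' : G)))) =
      (p : ℂ) * ((Nat.card H : ℂ) * ∑ y : H, Ψ y * conj (Ψ y)) := by
    calc ∑ y : H, ∑ χ : IrrCharacter G, ∑ y' : H, conj (Ψ y) * Ψ y' *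
        ((χ : G → ℂ) (u x m * (y : G)) * conj ((χ : G → ℂ) (u x m * (y' : G))))
        = ∑ y : H, ∑ y' : H, conj (Ψ y) * Ψ y' *
          ((Finset.univ.filter fun g : G => g * (u x m * (y' : G)) * g⁻¹ = u x m * (y : G)).card : ℂ) := by
          refine Finset.sum_congr rfl fun y _ => ?_
          rw [Finset.sum_comm]
          refine Finset.sum_congr rfl fun y' _ => ?_
          rw [← Finset.mul_sum, sum_irr_mul_conj_eq]
      _ = ∑ y : H, ∑ y' : H, (p : ℂ) * ∑ k : H, if k * y' * k⁻¹ = y then conj (Ψ y) * Ψ y' else 0 :=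
          Finset.sum_congr rfl fun y _ => Finset.sum_congr rfl fun y' _ => e2 y y'
      _ = (p : ℂ) * ∑ y' : H, ∑ k : H, ∑ y : H, if k * y' * k⁻¹ = y then conj (Ψ y) * Ψ y' else 0 := by
          rw [Finset.sum_comm, Finset.mul_sum]
          refine Finset.sum_congr rfl fun y' _ => ?_
          rw [← Finset.mul_sum, Finset.sum_comm]
      _ = (p : ℂ) * ∑ y' : H, ∑ k : H, Ψ y' * conj (Ψ y') := by
          congr 1
          refine Finset.sum_congr rfl fun y' _ => Finset.sum_congr rfl fun k _ => ?_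
          rw [Finset.sum_ite_eq Finset.univ (k * y' * k⁻¹), if_pos (Finset.mem_univ _), hΨ, mul_comm]
      _ = (p : ℂ) * ((Nat.card H : ℂ) * ∑ y : H, Ψ y * conj (Ψ y)) := by
          congr 1
          rw [Finset.mul_sum]
          refine Finset.sum_congr rfl fun y' _ => ?_
          rw [Finset.sum_const, Finset.card_univ, nsmul_eq_mul, Nat.card_eq_fintype_card]
  rw [e3]
  field_simp

theorem sum_AA [Fintype (IrrCharacter G)] (h : Split p x H) {m : ZMod p} (hm : m ≠ 0) {Ψ : H → ℂ}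
    (hΨ : ∀ g y : H, Ψ (g * y * g⁻¹) = Ψ y) (hv : VanS p Ψ) :
    ∑ χ : IrrCharacter G, Complex.normSq (AA x Ψ (χ : G → ℂ) m) = (p : ℝ) * nrm Ψ := by
  have h1 := sum_AA_complex h hm hΨ hv
  have h2 : ((∑ χ : IrrCharacter G, Complex.normSq (AA x Ψ (χ : G → ℂ) m) : ℝ) : ℂ) =
      (((p : ℝ) * nrm Ψ : ℝ) : ℂ) := by
    unfold nrm
    push_cast
    rw [Finset.sum_congr rfl fun χ _ => (Complex.mul_conj (AA x Ψ ((χ : IrrCharacter G) : G → ℂ) m)).symm, h1]
    congr 2
    exact Finset.sum_congr rfl fun y _ => Complex.mul_conj _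
  exact_mod_cast h2

/-! ### counting -/

open scoped Classical in
/-- number of pairs which are separated -/
theorem pairs_ge {V β : Type*} [Fintype V] (c : V → β) {v w : V} (hvw : c v ≠ c w) :
    2 * (Fintype.card V - 1) ≤ (Finset.univ.filter fun a : V × V => c a.1 ≠ c a.2).card := by
  set A := Finset.univ.filter fun a : V => c a = c v with hA
  have hsub : (A ×ˢ Aᶜ) ∪ (Aᶜ ×ˢ A) ⊆ Finset.univ.filter fun a : V × V => c a.1 ≠ c a.2 := by
    rintro ⟨a, b⟩ hab
    rw [Finset.mem_union, Finset.mem_product, Finset.mem_product, Finset.mem_compl, Finset.mem_compl, hA,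
      Finset.mem_filter, Finset.mem_filter] at hab
    rw [Finset.mem_filter]
    refine ⟨Finset.mem_univ _, fun hab' => ?_⟩
    have hab' : c a = c b := hab'
    rcases hab with ⟨h1, h2⟩ | ⟨h1, h2⟩
    · exact h2 ⟨Finset.mem_univ _, hab'.symm.trans h1.2⟩
    · exact h1 ⟨Finset.mem_univ _, hab'.trans h2.2⟩
  have hdis : Disjoint (A ×ˢ Aᶜ) (Aᶜ ×ˢ A) := by
    rw [Finset.disjoint_left]
    rintro ⟨a, b⟩ h1 h2
    rw [Finset.mem_product, Finset.mem_compl] at h1 h2
    exact h2.1 h1.1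
  refine le_trans ?_ (Finset.card_le_card hsub)
  rw [Finset.card_union_of_disjoint hdis, Finset.card_product, Finset.card_product, mul_comm Aᶜ.card]
  have h1 : 0 < A.card := Finset.card_pos.2 ⟨v, Finset.mem_filter.2 ⟨Finset.mem_univ _, rfl⟩⟩
  have h2 : 0 < Aᶜ.card := Finset.card_pos.2 ⟨w, Finset.mem_compl.2 fun hw => hvw (Finset.mem_filter.1 hw).2.symm⟩
  have h3 := Finset.card_add_card_compl A
  obtain ⟨a, ha⟩ : ∃ a, A.card = a + 1 := ⟨_, (Nat.succ_pred_eq_of_pos h1).symm⟩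
  obtain ⟨b, hb⟩ : ∃ b, Aᶜ.card = b + 1 := ⟨_, (Nat.succ_pred_eq_of_pos h2).symm⟩
  rw [ha, hb] at h3 ⊢
  have h4 : Fintype.card V - 1 = a + b + 1 := by omega
  rw [h4]
  nlinarith [Nat.zero_le (a * b)]

/-- `χ` is seen by `Ψ` -/
def Seen (x : G) (p : ℕ) (Ψ : H → ℂ) (χ : G → ℂ) : Prop := ∃ m : ZMod p, m ≠ 0 ∧ AA x Ψ χ m ≠ 0

theorem sum_sum [Fintype (IrrCharacter G)] (h : Split p x H) {Ψ : H → ℂ} (hΨ : IsGen Ψ) (hv : VanS p Ψ) :
    ∑ χ : IrrCharacter G, ∑ m ∈ Finset.univ.erase (0 : ZMod p), Complex.normSq (AA x Ψ (χ : G → ℂ) m) =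
      ((p : ℝ) - 1) * ((p : ℝ) * nrm Ψ) := by
  rw [Finset.sum_comm, Finset.sum_congr rfl fun m hm => sum_AA h (Finset.ne_of_mem_erase hm) hΨ.class hv,
    Finset.sum_const, Finset.card_erase_of_mem (Finset.mem_univ _), Finset.card_univ, ZMod.card, nsmul_eq_mul,
    Nat.cast_sub hp.out.one_lt.le, Nat.cast_one]

open scoped Classical in
theorem card_seen_one [Fintype (IrrCharacter G)] (h : Split p x H) {Ψ : H → ℂ} (hΨ : IsGen Ψ) (hv : VanS p Ψ) :
    ((Finset.univ.filter fun χ : IrrCharacter G => Seen x p Ψ (χ : G → ℂ)).card : ℝ) ≤ p * nrm Ψ := by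
  have hp1 : (0 : ℝ) < (p : ℝ) - 1 := by
    have : (1 : ℝ) < p := by exact_mod_cast hp.out.one_lt
    linarith
  refine le_of_mul_le_mul_left ?_ hp1
  rw [← sum_sum h hΨ hv, mul_comm, ← nsmul_eq_mul, ← Finset.sum_const]
  refine le_trans (Finset.sum_le_sum fun χ hχ => four_le (intF h hΨ χ) (Finset.mem_filter.1 hχ).2) ?_
  exact Finset.sum_le_sum_of_subset_of_nonneg (Finset.subset_univ _)
    fun χ _ _ => Finset.sum_nonneg fun m _ => Complex.normSq_nonneg _

open scoped Classical in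
theorem card_seen [Fintype (IrrCharacter G)] (h : Split p x H) {V : Type*} [Fintype V]
    (δ : V → H → ℂ) (hδ : ∀ v, IsGen (δ v)) (hv : ∀ v w, VanS p (δ v - δ w))
    (horth : ∀ v w, v ≠ w → nrm (δ v - δ w) = nrm (δ v) + nrm (δ w)) (hcard : 2 ≤ Fintype.card V) :
    ((Finset.univ.filter fun χ : IrrCharacter G => ∃ v w, Seen x p (δ v - δ w) (χ : G → ℂ)).card : ℝ) ≤
      p * ∑ v, nrm (δ v) := by
  set S := Finset.univ.filter fun χ : IrrCharacter G => ∃ v w, Seen x p (δ v - δ w) (χ : G → ℂ) with hS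
  set N := Fintype.card V with hN
  have hp1 : (0 : ℝ) < (p : ℝ) - 1 := by
    have : (1 : ℝ) < p := by exact_mod_cast hp.out.one_lt
    linarith
  have hN1 : (0 : ℝ) < 2 * ((N : ℝ) - 1) := by
    have : (2 : ℝ) ≤ N := by exact_mod_cast hcard
    linarith
  -- the total
  have htot : ∑ χ : IrrCharacter G, ∑ a : V × V, ∑ m ∈ Finset.univ.erase (0 : ZMod p),
      Complex.normSq (AA x (δ a.1 - δ a.2) (χ : G → ℂ) m) =
      ((p : ℝ) - 1) * (p * (2 * ((N : ℝ) - 1) * ∑ v, nrm (δ v))) := by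
    rw [Finset.sum_comm, Finset.sum_congr rfl fun a _ => sum_sum h ((hδ a.1).sub (hδ a.2)) (hv a.1 a.2),
      ← Finset.mul_sum, ← Finset.mul_sum]
    congr 2
    have h1 : ∀ a : V × V, nrm (δ a.1 - δ a.2) = (if a.1 = a.2 then 0 else nrm (δ a.1)) +
        (if a.1 = a.2 then 0 else nrm (δ a.2)) := by
      intro a
      by_cases ha : a.1 = a.2
      · rw [if_pos ha, if_pos ha, ha, sub_self]
        unfold nrm
        simp
      · rw [if_neg ha, if_neg ha, horth _ _ ha]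
    rw [Finset.sum_congr rfl fun a _ => h1 a, Finset.sum_add_distrib, Fintype.sum_prod_type,
      Fintype.sum_prod_type_right]
    have h2 : ∀ v : V, ∑ w : V, (if v = w then (0 : ℝ) else nrm (δ v)) = ((N : ℝ) - 1) * nrm (δ v) := by
      intro v
      have h3 : ∑ w : V, (if v = w then (0 : ℝ) else nrm (δ v)) =
          ∑ w : V, (nrm (δ v) - if v = w then nrm (δ v) else 0) :=
        Finset.sum_congr rfl fun w _ => by split_ifs <;> ring
      rw [h3, Finset.sum_sub_distrib, Finset.sum_ite_eq, if_pos (Finset.mem_univ _), Finset.sum_const,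
        Finset.card_univ, nsmul_eq_mul]
      ring
    have h3 : ∀ v : V, ∑ w : V, (if w = v then (0 : ℝ) else nrm (δ v)) = ((N : ℝ) - 1) * nrm (δ v) := by
      intro v
      rw [← h2 v]
      exact Finset.sum_congr rfl fun w _ => by simp only [eq_comm]
    rw [Finset.sum_congr rfl fun v _ => h2 v, Finset.sum_congr rfl fun v _ => h3 v, ← Finset.mul_sum]
    ring
  have hone : ∀ χ ∈ S, ((p : ℝ) - 1) * (2 * ((N : ℝ) - 1)) ≤ ∑ a : V × V, ∑ m ∈ Finset.univ.erase (0 : ZMod p),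
      Complex.normSq (AA x (δ a.1 - δ a.2) (χ : G → ℂ) m) := by
    intro χ hχ
    obtain ⟨v, w, m, hm, hmne⟩ := (Finset.mem_filter.1 hχ).2
    let c : V → {m : ZMod p // m ≠ 0} → ℂ := fun v m => AA x (δ v) (χ : G → ℂ) m.1
    have hcne : c v ≠ c w := by
      intro hc
      apply hmne
      have h1 := congrFun hc ⟨m, hm⟩
      rw [AA_sub]
      exact sub_eq_zero.2 h1
    have h2 := pairs_ge c hcne
    have h3 : (2 * ((N : ℝ) - 1)) ≤ ((Finset.univ.filter fun a : V × V => c a.1 ≠ c a.2).card : ℝ) := by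
      have h4 : ((2 * (N - 1) : ℕ) : ℝ) ≤ ((Finset.univ.filter fun a : V × V => c a.1 ≠ c a.2).card : ℝ) := by
        exact_mod_cast h2
      rw [Nat.cast_mul, Nat.cast_sub (by omega)] at h4
      exact_mod_cast h4
    calc ((p : ℝ) - 1) * (2 * ((N : ℝ) - 1))
        ≤ ((Finset.univ.filter fun a : V × V => c a.1 ≠ c a.2).card : ℝ) * ((p : ℝ) - 1) := by
          rw [mul_comm]
          exact mul_le_mul_of_nonneg_right h3 hp1.le
      _ = ∑ a ∈ Finset.univ.filter (fun a : V × V => c a.1 ≠ c a.2), ((p : ℝ) - 1) := by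
          rw [Finset.sum_const, nsmul_eq_mul]
      _ ≤ ∑ a ∈ Finset.univ.filter (fun a : V × V => c a.1 ≠ c a.2), ∑ m ∈ Finset.univ.erase (0 : ZMod p),
          Complex.normSq (AA x (δ a.1 - δ a.2) (χ : G → ℂ) m) := by
          refine Finset.sum_le_sum fun a ha => four_le (intF h ((hδ a.1).sub (hδ a.2)) χ) ?_
          have ha := (Finset.mem_filter.1 ha).2
          by_contra hcon
          push Not at hcon
          apply ha
          funext m
          have h5 := hcon m.1 m.2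
          rw [AA_sub] at h5
          exact sub_eq_zero.1 h5
      _ ≤ _ := Finset.sum_le_sum_of_subset_of_nonneg (Finset.subset_univ _)
          fun a _ _ => Finset.sum_nonneg fun m _ => Complex.normSq_nonneg _
  have hfin : (S.card : ℝ) * (((p : ℝ) - 1) * (2 * ((N : ℝ) - 1))) ≤
      ((p : ℝ) - 1) * (p * (2 * ((N : ℝ) - 1) * ∑ v, nrm (δ v))) := by
    rw [← htot, ← nsmul_eq_mul, ← Finset.sum_const]
    exact (Finset.sum_le_sum hone).trans (Finset.sum_le_sum_of_subset_of_nonneg (Finset.subset_univ _)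
      fun χ _ _ => Finset.sum_nonneg fun a _ => Finset.sum_nonneg fun m _ => Complex.normSq_nonneg _)
  have hpos : (0 : ℝ) < ((p : ℝ) - 1) * (2 * ((N : ℝ) - 1)) := mul_pos hp1 hN1
  refine le_of_mul_le_mul_left ?_ hpos
  linarith

end Cfsg.Agent.H759.LSix
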